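import Cfsg.Agent.Aschbacher.UnitaryPrime
import Cfsg.Agent.Aschbacher.Symp.Tensor

/-!
The special unitary group preserves no decomposition into subspaces of dimension at least two, no frame and no tensor
decomposition with a factor of dimension at least three.
-/

set_option autoImplicit false
set_option linter.unusedSectionVars false
set_option linter.style.haveILetI false

namespace Cfsg.Agent.Aschbacher

open scoped MatrixGroups Matrix Kronecker
open Module
open Cfsg.Agent.MaxSub.Asch (tr ptens exists_ptens_image)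

variable {F : Type*} [Field F]

/-- A non-zero rank one map cannot send all pure tensors to pure tensors. -/
theorem exists_not_pure {a b : ℕ} (ha : 2 ≤ a) (hb : 3 ≤ b) (φ : (Fin a × Fin b → F) →ₗ[F] F) (hφ : φ ≠ 0)
    {w : Fin a × Fin b → F} (hw : w ≠ 0) :
    ∃ x u, ∀ y z, pvec x u + φ (pvec x u) • w ≠ pvec y z := by
  classical
  by_contra hcon
  push Not at hcon
  have hadd : ∀ x x' : Fin a → F, ∀ u : Fin b → F, pvec (x + x') u = pvec x u + pvec x' u := fun x x' u => by
    funext p; simp [pvec, add_mul]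
  have haddr : ∀ x : Fin a → F, ∀ u u' : Fin b → F, pvec x (u + u') = pvec x u + pvec x u' := fun x u u' => by
    funext p; simp [pvec, mul_add]
  have hsmul : ∀ (c : F) (x : Fin a → F) (u : Fin b → F), pvec x (c • u) = c • pvec x u := fun c x u => by
    funext p; simp [pvec, mul_left_comm]
  let ψ : (Fin a → F) → ((Fin b → F) →ₗ[F] F) := fun x =>
    { toFun := fun u => φ (pvec x u)
      map_add' := fun u u' => by rw [haddr, map_add]
      map_smul' := fun c u => by rw [hsmul, map_smul, RingHom.id_apply] }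
  -- where the functional does not vanish the vector is a multiple of the first factor
  have key : ∀ x, ψ x ≠ 0 → ∀ i j k, x j * w (i, k) = x i * w (j, k) := by
    intro x hx
    obtain ⟨s₀, hs₀⟩ : ∃ s, ψ x s = 1 := by
      obtain ⟨s, hs⟩ : ∃ s, ψ x s ≠ 0 := by
        by_contra h
        push Not at h
        exact hx (LinearMap.ext h)
      exact ⟨(ψ x s)⁻¹ • s, by rw [map_smul, smul_eq_mul, inv_mul_cancel₀ hs]⟩
    have hrank : 2 ≤ finrank F (LinearMap.ker (ψ x)) := by
      have h1 := LinearMap.finrank_range_add_finrank_ker (ψ x)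
      have h2 := Submodule.finrank_le (LinearMap.range (ψ x))
      rw [Module.finrank_self] at h2
      rw [Module.finrank_pi, Fintype.card_fin] at h1
      omega
    intro i j
    by_contra hne
    push Not at hne
    obtain ⟨k₀, hk₀⟩ := hne
    -- the rows
    let d : Fin b → F := fun k => x j * w (i, k) - x i * w (j, k)
    have hd : d ≠ 0 := fun e => hk₀ (sub_eq_zero.mp (congrFun e k₀))
    have hline : ∀ s, ψ x s = 1 → ∀ l, (l = i ∨ l = j) → ∃ c : F, ∀ k, x l * s k + w (l, k) = c * d k := by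
      intro s hs l hl
      obtain ⟨y, z, hyz⟩ := hcon x s
      have h1 : ∀ p q, x p * s q + w (p, q) = y p * z q := fun p q => by
        have h := congrFun hyz (p, q)
        have hs' : φ (pvec x s) = 1 := hs
        rw [hs', one_smul] at h
        exact h
      have h2 : ∀ k, d k = (x j * y i - x i * y j) * z k := fun k => by
        simp only [d]
        linear_combination x j * h1 i k - x i * h1 j k
      have hne0 : x j * y i - x i * y j ≠ 0 := fun e => hd (funext fun k => by rw [h2, e, zero_mul]; rfl)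
      exact ⟨y l / (x j * y i - x i * y j), fun k => by rw [h1, h2, ← mul_assoc, div_mul_cancel₀ _ hne0]⟩
    obtain ⟨l, hl, hxl⟩ : ∃ l, (l = i ∨ l = j) ∧ x l ≠ 0 := by
      by_contra h
      push Not at h
      exact hd (funext fun k => by simp [d, h i (Or.inl rfl), h j (Or.inr rfl)])
    have hle : LinearMap.ker (ψ x) ≤ Submodule.span F {d} := by
      intro s hs
      obtain ⟨c, hc⟩ := hline s₀ hs₀ l hl
      obtain ⟨c', hc'⟩ := hline (s₀ + s) (by rw [map_add, hs₀, LinearMap.mem_ker.mp hs, add_zero]) l hl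
      refine Submodule.mem_span_singleton.mpr ⟨(c' - c) / x l, funext fun k => ?_⟩
      rw [Pi.smul_apply, smul_eq_mul, div_mul_eq_mul_div, div_eq_iff hxl]
      have h1 := hc k
      have h2 := hc' k
      rw [Pi.add_apply] at h2
      linear_combination h1 - h2
    have := Submodule.finrank_mono hle
    rw [finrank_span_singleton hd] at this
    omega
  obtain ⟨x, hx⟩ : ∃ x, ψ x ≠ 0 := by
    by_contra h
    push Not at h
    refine hφ ((Pi.basisFun F (Fin a × Fin b)).ext fun p => ?_)
    have h1 := LinearMap.congr_fun (h (Pi.single p.1 1)) (Pi.single p.2 1)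
    rw [LinearMap.zero_apply] at h1
    rw [Pi.basisFun_apply, LinearMap.zero_apply]
    convert h1 using 1
    show φ _ = φ _
    congr 1
    funext q
    obtain ⟨i, j⟩ := p
    obtain ⟨k, l⟩ := q
    by_cases h1 : k = i <;> by_cases h2 : l = j <;> simp [pvec, h1, h2]
  obtain ⟨i₀, hi₀⟩ : ∃ i, x i ≠ 0 := Function.ne_iff.mp fun e => hx (LinearMap.ext fun u => by
    show φ (pvec x u) = 0
    rw [show pvec x u = 0 by funext p; simp [pvec, e], map_zero])
  obtain ⟨j₀, hj₀⟩ : ∃ j, j ≠ i₀ := ⟨if (i₀ : ℕ) = 0 then ⟨1, by omega⟩ else ⟨0, by omega⟩, by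
    split_ifs with h <;> simp [Fin.ext_iff, h] <;> omega⟩
  let y : Fin a → F := Pi.single j₀ 1
  have hψadd : ψ (x + y) = ψ x + ψ y := LinearMap.ext fun u => by
    show φ _ = φ _ + φ _
    rw [hadd, map_add]
  obtain ⟨x', hx', hindep⟩ : ∃ x', ψ x' ≠ 0 ∧ x' i₀ * x j₀ ≠ x i₀ * x' j₀ := by
    by_cases hy : ψ y = 0
    · refine ⟨x + y, by rwa [hψadd, hy, add_zero], ?_⟩
      simpa [y, hj₀.symm, add_mul, mul_add] using hi₀
    · exact ⟨y, hy, by simpa [y, hj₀.symm] using hi₀.symm⟩
  refine hw (funext fun ⟨i, k⟩ => ?_)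
  have e1 := key x hx i₀ j₀ k
  have e2 := key x' hx' i₀ j₀ k
  have h0 : w (i₀, k) = 0 :=
    (mul_eq_zero.mp (show (x' i₀ * x j₀ - x i₀ * x' j₀) * w (i₀, k) = 0 by
      linear_combination x' i₀ * e1 - x i₀ * e2)).resolve_left (sub_ne_zero.mpr hindep)
  have e3 := key x hx i₀ i k
  rw [h0, mul_zero] at e3
  exact (mul_eq_zero.mp e3.symm).resolve_left hi₀

variable [Fintype F] {n q : ℕ}

/-- A subspace containing or orthogonal to every isotropic vector is trivial. -/
theorem IsConj.isotropic_dichotomy {σ : F →+* F} (hσ : IsConj q σ) {W : Submodule F (Fin n → F)}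
    (hW : ∀ v, hermForm n F q v v = 0 → (∃ w ∈ W, hermForm n F q w v ≠ 0) → v ∈ W) : W = ⊥ ∨ W = ⊤ := by
  classical
  by_cases hb : W = ⊥
  · exact Or.inl hb
  refine Or.inr ?_
  obtain ⟨w, hw, hw0⟩ := (Submodule.ne_bot_iff _).mp hb
  have hiso : ∀ v, hermForm n F q v v = 0 → hermForm n F q w v ≠ 0 → v ∈ W := fun v hv hne => hW v hv ⟨w, hw, hne⟩
  obtain ⟨i, hi⟩ := Function.ne_iff.mp hw0
  obtain ⟨s, hs, hsb⟩ := hσ.exists_three (a := (-1 : F)) (by simp) (by simp)
  have hpair : ∀ j, i ≠ j → (Pi.single i 1 : Fin n → F) ∈ W ∧ (Pi.single j 1 : Fin n → F) ∈ W := by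
    intro j hij
    have hbad : (s.filter fun b => w i + w j * σ b = 0).card ≤ 1 := by
      refine Finset.card_le_one.mpr fun b hb b' hb' => ?_
      simp only [Finset.mem_filter] at hb hb'
      have hwj : w j ≠ 0 := fun h0 => hi (by simpa [h0] using hb.2)
      exact σ.injective (mul_left_cancel₀ hwj (by linear_combination hb.2 - hb'.2))
    have hgood : 1 < (s.filter fun b => ¬ (w i + w j * σ b = 0)).card := by
      have := Finset.card_filter_add_card_filter_not (s := s) (fun b => w i + w j * σ b = 0)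
      omega
    obtain ⟨b, hb, b', hb', hne⟩ := Finset.one_lt_card.mp hgood
    simp only [Finset.mem_filter] at hb hb'
    have m1 := hiso _ (hσ.pair_isotropic hij (hsb b hb.1).2) (by rw [hσ.hermForm_pair w hij]; exact hb.2)
    have m2 := hiso _ (hσ.pair_isotropic hij (hsb b' hb'.1).2) (by rw [hσ.hermForm_pair w hij]; exact hb'.2)
    have m3 := W.sub_mem m1 m2
    rw [add_sub_add_left_eq_sub, ← Pi.single_sub] at m3
    have hj : (Pi.single j 1 : Fin n → F) ∈ W := by
      have := W.smul_mem (b - b')⁻¹ m3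
      rwa [← Pi.single_smul, smul_eq_mul, inv_mul_cancel₀ (sub_ne_zero.mpr hne)] at this
    refine ⟨?_, hj⟩
    have := W.sub_mem m1 (W.smul_mem b hj)
    rwa [← Pi.single_smul, smul_eq_mul, mul_one, add_sub_cancel_right] at this
  rw [eq_top_iff]
  intro v _
  rw [pi_eq_sum_univ' v]
  refine W.sum_mem fun j _ => W.smul_mem _ ?_
  rcases eq_or_ne i j with rfl | hij
  · by_cases h : ∃ j, i ≠ j
    · obtain ⟨j, hj⟩ := h
      exact (hpair j hj).1
    · push Not at h
      have hwi : w = w i • (Pi.single i 1 : Fin n → F) := funext fun k => by rw [← h k]; simp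
      rw [hwi] at hw
      exact (W.smul_mem_iff hi).mp hw
  · exact (hpair j hij).2

/-- The special unitary group preserves no decomposition into subspaces of dimension at least two. -/
theorem su_not_le_decompositionStabilizer (hQ : Fintype.card F = q ^ 2) {t k : ℕ}
    {D : Fin t → Submodule F (Fin n → F)} (hD : Geo.IsMDecomposition k D) (hk : 2 ≤ k) :
    ¬ GU n F q ⊓ Geo.specialLinear (Fin n) F ≤ Geo.decompositionStabilizer D := by
  classical
  intro hle
  obtain ⟨σ', -, hσ⟩ := exists_isConj hQ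
  set σ : F →+* F := (σ' : F →+* F)
  have hh := hσ.herm (n := n)
  have ht := hD.two_le
  set i₀ : Fin t := ⟨0, by omega⟩
  set i₁ : Fin t := ⟨1, by omega⟩
  have h01 : i₀ ≠ i₁ := by simp [i₀, i₁]
  obtain ⟨c, hc0, hc⟩ := hσ.exists_skew
  have hdich := hσ.isotropic_dichotomy (W := D i₀) fun v hv hw => by
    obtain ⟨w, hw, hwv⟩ := hw
    obtain ⟨t', ht', htv⟩ := hσ.exists_transvection hv hc
    obtain ⟨π, hπ⟩ := hle ht'
    have himg : ∀ x ∈ D i₀, x + (c * hermForm n F q x v) • v ∈ D (π i₀) := fun x hx => by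
      have h1 := mulVec_mem_of_map hπ hx
      rwa [htv, Matrix.add_mulVec, Matrix.one_mulVec, Matrix.smul_mulVec, hσ.rankOne_mulVec, smul_smul] at h1
    have hπ0 : π i₀ = i₀ := by
      by_contra hne
      let L : D i₀ →ₗ[F] F :=
        { toFun := fun x => hermForm n F q (x : Fin n → F) v
          map_add' := fun x y => by rw [Submodule.coe_add, hh.add_left]
          map_smul' := fun s x => by rw [Submodule.coe_smul, hh.smul_left, RingHom.id_apply, smul_eq_mul] }
      have hker : LinearMap.ker L ≠ ⊥ := by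
        intro e
        have h1 := LinearMap.finrank_range_add_finrank_ker L
        have h2 := Submodule.finrank_le (LinearMap.range L)
        rw [Module.finrank_self] at h2
        rw [e, finrank_bot, hD.finrank_eq] at h1
        omega
      obtain ⟨x, hx, hx0⟩ := (Submodule.ne_bot_iff _).mp hker
      have h1 := himg x x.2
      rw [show hermForm n F q (x : Fin n → F) v = 0 from hx, mul_zero, zero_smul, add_zero] at h1
      exact hx0 (Subtype.ext (Submodule.disjoint_def.mp (hD.indep.pairwiseDisjoint (Ne.symm hne)) _ x.2 h1))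
    have h1 := himg w hw
    rw [hπ0] at h1
    have h2 := (D i₀).sub_mem h1 hw
    rw [add_sub_cancel_left] at h2
    exact ((D i₀).smul_mem_iff (mul_ne_zero hc0 hwv)).mp h2
  rcases hdich with h | h
  · have := hD.finrank_eq i₀
    rw [h, finrank_bot] at this
    omega
  · have hd : D i₁ = ⊥ := by
      have := hD.indep.pairwiseDisjoint h01
      simpa [Function.onFun, h] using this
    have := hD.finrank_eq i₁
    rw [hd, finrank_bot] at this
    omega

/-- The special unitary group preserves no orthogonal frame. -/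
theorem su_not_le_linesStabilizer (hQ : Fintype.card F = q ^ 2) (hn : 4 ≤ n) {D : Fin n → Submodule F (Fin n → F)}
    (hD : Geo.IsNondegenerateMDecomposition (hermForm n F q) 1 D) :
    ¬ GU n F q ⊓ Geo.specialLinear (Fin n) F ≤ Geo.decompositionStabilizer D := by
  obtain ⟨σ', -, hσ⟩ := exists_isConj hQ
  have hh := hσ.herm (n := n)
  obtain ⟨b, hb, -⟩ := exists_frame_of_decomp hD.decomp
  have hDb : ∀ i, D i = Submodule.span F {b i} := fun i => by
    refine (Submodule.eq_of_le_of_finrank_eq ((Submodule.span_singleton_le_iff_mem _ _).mpr (hb i)) ?_).symm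
    rw [finrank_span_singleton (b.ne_zero i), hD.decomp.finrank_eq]
  rw [show D = fun i => Submodule.span F {b i} from funext hDb]
  refine su_not_le_orthFrame hQ (by omega) (Or.inl hn) b (fun i j hij => hD.orthogonal i j hij _ (hb i) _ (hb j))
    fun i h0 => ?_
  obtain ⟨x, hx, hx0⟩ := (hD.nondegenerate i (b i) (hb i) (b.ne_zero i)).1
  rw [hDb] at hx
  obtain ⟨l, rfl⟩ := Submodule.mem_span_singleton.mp hx
  exact hx0 (by rw [hh.smul_left, h0, mul_zero])

/-- A transvection moves some pure tensor off the pure tensors. -/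
theorem exists_transvection_not_pure (hQ : Fintype.card F = q ^ 2) (hn : 3 ≤ n) {a b : ℕ} (ha : 2 ≤ a) (hb : 3 ≤ b)
    (e : Fin n ≃ Fin a × Fin b) (P : GL (Fin n) F) :
    ∃ t ∈ GU n F q ⊓ Geo.specialLinear (Fin n) F, ∃ x u, ∀ y z,
      (t : Matrix (Fin n) (Fin n) F) *ᵥ ((P : Matrix (Fin n) (Fin n) F) *ᵥ (pvec x u ∘ e)) ≠
        (P : Matrix (Fin n) (Fin n) F) *ᵥ (pvec y z ∘ e) := by
  classical
  obtain ⟨σ', -, hσ⟩ := exists_isConj hQ
  set σ : F →+* F := (σ' : F →+* F)
  have hh := hσ.herm (n := n)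
  obtain ⟨s, hs, hsb⟩ := hσ.exists_three (a := (-1 : F)) (by simp) (by simp)
  obtain ⟨β, hβ⟩ := Finset.card_pos.mp (by omega : 0 < s.card)
  set i₀ : Fin n := ⟨0, by omega⟩
  set i₁ : Fin n := ⟨1, by omega⟩
  have h01 : i₀ ≠ i₁ := by simp [i₀, i₁]
  set v : Fin n → F := Pi.single i₀ 1 + Pi.single i₁ β with hv'
  have hv : hermForm n F q v v = 0 := hσ.pair_isotropic h01 (hsb β hβ).2
  have hv0 : v ≠ 0 := fun h => by simpa [hv', h01] using congrFun h i₀
  obtain ⟨c, hc0, hc⟩ := hσ.exists_skew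
  obtain ⟨t, ht, htv⟩ := hσ.exists_transvection hv hc
  set w : Fin a × Fin b → F := (((P⁻¹ : GL (Fin n) F) : Matrix (Fin n) (Fin n) F) *ᵥ v) ∘ e.symm with hwdef
  have hPw : (P : Matrix (Fin n) (Fin n) F) *ᵥ (w ∘ e) = v := by
    rw [hwdef, Function.comp_assoc, Equiv.symm_comp_self, Function.comp_id, Matrix.mulVec_mulVec, ← Units.val_mul,
      mul_inv_cancel, Units.val_one, Matrix.one_mulVec]
  let φ : (Fin a × Fin b → F) →ₗ[F] F :=
    { toFun := fun z => c * hermForm n F q ((P : Matrix (Fin n) (Fin n) F) *ᵥ (z ∘ e)) v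
      map_add' := fun z z' => by
        rw [show (z + z') ∘ e = z ∘ e + z' ∘ e from rfl, Matrix.mulVec_add, hh.add_left, mul_add]
      map_smul' := fun l z => by
        rw [show (l • z) ∘ e = l • (z ∘ e) from rfl, Matrix.mulVec_smul, hh.smul_left, RingHom.id_apply, smul_eq_mul,
          mul_left_comm] }
  have hφ : φ ≠ 0 := by
    intro h
    obtain ⟨y, hy⟩ := (hh.nondegenerate v hv0).1
    have h1 := LinearMap.congr_fun h ((((P⁻¹ : GL (Fin n) F) : Matrix (Fin n) (Fin n) F) *ᵥ y) ∘ e.symm)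
    simp only [φ, LinearMap.coe_mk, AddHom.coe_mk, LinearMap.zero_apply, Function.comp_assoc, Equiv.symm_comp_self,
      Function.comp_id, Matrix.mulVec_mulVec, ← Units.val_mul, mul_inv_cancel, Units.val_one, Matrix.one_mulVec] at h1
    exact hy ((mul_eq_zero.mp h1).resolve_left hc0)
  have hw : w ≠ 0 := fun h => hv0 (by rw [← hPw, h]; exact Matrix.mulVec_zero _)
  obtain ⟨x, u, hxu⟩ := exists_not_pure ha hb φ hφ hw
  refine ⟨t, ht, x, u, fun y z he => hxu y z (comp_mulVec_inj e P ?_)⟩
  rw [← he, htv, Matrix.add_mulVec, Matrix.one_mulVec, Matrix.smul_mulVec, hσ.rankOne_mulVec, smul_smul,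
    show (pvec x u + φ (pvec x u) • w) ∘ e = pvec x u ∘ e + φ (pvec x u) • (w ∘ e) from rfl, Matrix.mulVec_add,
    Matrix.mulVec_smul, hPw]
  rfl

theorem su_not_le_tensorProductSubgroup (hQ : Fintype.card F = q ^ 2) (hn : 3 ≤ n) {a b : ℕ} (ha : 2 ≤ a)
    (hb : 3 ≤ b) (e : Fin n ≃ Fin a × Fin b) (P : GL (Fin n) F) :
    ¬ GU n F q ⊓ Geo.specialLinear (Fin n) F ≤ Geo.tensorProductSubgroup a b e P := by
  intro hle
  obtain ⟨t, ht, x, u, hxu⟩ := exists_transvection_not_pure hQ hn ha hb e P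
  obtain ⟨_, ⟨k, ⟨A, B, hAB⟩, rfl⟩, rfl⟩ := hle ht
  refine hxu ((A : Matrix (Fin a) (Fin a) F) *ᵥ x) ((B : Matrix (Fin b) (Fin b) F) *ᵥ u) ?_
  rw [show ((MulAut.conj P).toMonoidHom ((Geo.glReindex e.symm).toMonoidHom k) : Matrix (Fin n) (Fin n) F) =
    tr e P (k : Matrix (Fin a × Fin b) (Fin a × Fin b) F) from MaxSub.Asch.tr_eq_conj_glReindex e P k, tr_mulVec,
    hAB, kron_mulVec_pvec]

theorem su_not_le_tensorWreathSubgroup (hQ : Fintype.card F = q ^ 2) (hn : 3 ≤ n) {d : ℕ} (hd : 3 ≤ d)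
    (e : Fin n ≃ (Fin 2 → Fin d)) (P : GL (Fin n) F) :
    ¬ GU n F q ⊓ Geo.specialLinear (Fin n) F ≤ Geo.tensorWreathSubgroup d 2 e P := by
  intro hle
  let π : (Fin 2 → Fin d) ≃ Fin d × Fin d := finTwoArrowEquiv (Fin d)
  obtain ⟨t, ht, x, u, hxu⟩ := exists_transvection_not_pure hQ hn (a := d) (by omega) hd (e.trans π) P
  obtain ⟨_, ⟨k, hk, rfl⟩, rfl⟩ := hle ht
  obtain ⟨u', hu'⟩ := exists_ptens_image hk ![x, u]
  have hp : ∀ f : Fin 2 → Fin d → F, pvec (f 0) (f 1) ∘ (e.trans π) = ptens f ∘ e := fun f => by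
    funext i
    simp [pvec, ptens, π, Fin.prod_univ_two]
  refine hxu (u' 0) (u' 1) ?_
  have hxu' := hp ![x, u]
  simp only [Matrix.cons_val_zero, Matrix.cons_val_one, Matrix.cons_val_fin_one] at hxu'
  rw [show ((MulAut.conj P).toMonoidHom ((Geo.glReindex e.symm).toMonoidHom k) : Matrix (Fin n) (Fin n) F) =
    tr e P (k : Matrix (Fin 2 → Fin d) (Fin 2 → Fin d) F) from MaxSub.Asch.tr_eq_conj_glReindex e P k, hxu',
    tr_mulVec, hu', hp]

end Cfsg.Agent.Aschbacher
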