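import Cfsg.Agent.Aschbacher.UnitaryPrime
import Cfsg.Agent.Aschbacher.Symp.Six

/-!
Groups of symplectic type in the unitary groups: their commutators are scalars and the special unitary group in
dimension at least four does not normalise them.
-/

set_option autoImplicit false
set_option linter.unusedSectionVars false
set_option linter.style.haveILetI false

namespace Cfsg.Agent.Aschbacher

open scoped MatrixGroups Matrix commutatorElement
open Module

variable {F : Type*} [Field F] [Fintype F]

/-- Absolutely irreducible groups of symplectic type have scalar commutators. -/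
theorem scalarComm_of_symplecticType {ι : Type} [Fintype ι] [DecidableEq ι] [Nonempty ι] {r : ℕ}
    {R : Subgroup (GL ι F)} (hS : Geo.IsSymplecticTypeGroup r R)
    (habs : Geo.ActsAbsolutelyIrreducibly (Geo.matrixSet R)) : ScalarComm R := by
  classical
  haveI : Fact r.Prime := ⟨hS.prime⟩
  rcases hS.prime.eq_two_or_odd' with rfl | hodd
  · exact typeTwo_scalarComm hS habs
  haveI : Group.IsNilpotent R := hS.pGroup.isNilpotent
  have hexp : ∀ g : R, g ^ r = 1 := by
    intro g
    have h := Monoid.pow_exponent_eq_one g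
    rwa [hS.exponent_eq, show Nat.gcd 2 r = 1 from Nat.coprime_two_left.mpr hodd, mul_one] at h
  have hc := commutator_le_center (G := R) fun A hA hAc => by
    haveI := hA
    haveI := hS.cyclic_of_characteristic A hA hAc
    obtain ⟨⟨a, haA⟩, hgen⟩ := IsCyclic.exists_generator (α := A)
    have hag : ∀ g : R, g * a * g⁻¹ = a := by
      intro g
      have hmem : g * a * g⁻¹ ∈ A := (inferInstance : A.Normal).conj_mem a haA g
      obtain ⟨i, hi⟩ := mem_powers_iff_mem_zpowers.mpr (hgen ⟨g * a * g⁻¹, hmem⟩)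
      have hi' : g * a * g⁻¹ = a ^ i := (congrArg Subtype.val hi).symm
      have hit : ∀ k : ℕ, g ^ k * a * (g ^ k)⁻¹ = a ^ (i ^ k) := by
        intro k
        induction k with
        | zero => simp
        | succ k ih =>
          calc g ^ (k + 1) * a * (g ^ (k + 1))⁻¹ = g ^ k * (g * a * g⁻¹) * (g ^ k)⁻¹ := by
                rw [pow_succ, mul_inv_rev]; group
            _ = a ^ (i ^ (k + 1)) := by rw [hi', ← conj_pow, ih, ← pow_mul, pow_succ]
      have h1 := hit r
      rw [hexp g, one_mul, inv_one, mul_one] at h1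
      have hmod : i ^ r ≡ i [MOD r] := by
        rw [← ZMod.natCast_eq_natCast_iff, Nat.cast_pow]
        exact ZMod.pow_card _
      have h2 : a ^ (i ^ r) = a ^ i :=
        pow_eq_pow_iff_modEq.mpr (hmod.of_dvd (orderOf_dvd_of_pow_eq_one (hexp a)))
      rw [hi', ← h2, ← h1]
    intro y hy
    refine Subgroup.mem_center_iff.mpr fun g => ?_
    obtain ⟨i, hi⟩ := mem_powers_iff_mem_zpowers.mpr (hgen ⟨y, hy⟩)
    have hy' : y = a ^ i := (congrArg Subtype.val hi).symm
    have hca : Commute g a := mul_inv_eq_iff_eq_mul.mp (hag g)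
    rw [hy']
    exact (hca.pow_right i).eq
  refine ⟨habs, fun u hu v hv => mem_scalars_of_commute habs fun w hw => ?_⟩
  have hmem := hc (Subgroup.commutator_mem_commutator (H₁ := (⊤ : Subgroup R)) (H₂ := ⊤)
    (g₁ := ⟨u, hu⟩) (g₂ := ⟨v, hv⟩) trivial trivial)
  exact (congrArg Subtype.val (Subgroup.mem_center_iff.mp hmem ⟨w, hw⟩)).symm

/-- The order and the centre determine the dimension. -/
theorem symplecticType_dim {ι : Type} [Fintype ι] [DecidableEq ι] [Nonempty ι] {r : ℕ}
    {R : Subgroup (GL ι F)} (hS : Geo.IsSymplecticTypeGroup r R)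
    (habs : Geo.ActsAbsolutelyIrreducibly (Geo.matrixSet R)) {z k : ℕ} (hz : 0 < z)
    (hZ : Nat.card (Subgroup.center R) = z) (hcard : Nat.card R = z * r ^ (2 * k)) : Fintype.card ι = r ^ k := by
  have h := (scalarComm_of_symplecticType hS habs).card_eq
  rw [hcard, hZ] at h
  refine Nat.pow_left_injective two_ne_zero (?_ : Fintype.card ι ^ 2 = (r ^ k) ^ 2)
  rw [← pow_mul, mul_comm k]
  exact Nat.eq_of_mul_eq_mul_left hz (by rw [h, mul_comm])

variable {n q : ℕ}

theorem IsConj.exists_isotropic_mem {σ : F →+* F} (hσ : IsConj q σ) {W : Submodule F (Fin n → F)}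
    (hW : 2 ≤ finrank F W) : ∃ b ∈ W, b ≠ 0 ∧ hermForm n F q b b = 0 := by
  classical
  have h := hσ.herm (n := n)
  obtain ⟨w, hw, hw0⟩ := (Submodule.ne_bot_iff W).mp fun e => by rw [e, finrank_bot] at hW; omega
  by_cases hww : hermForm n F q w w = 0
  · exact ⟨w, hw, hw0, hww⟩
  obtain ⟨u, hu, hu'⟩ : ∃ u ∈ W, u ∉ Submodule.span F {w} := by
    by_contra hcon
    push Not at hcon
    have h1 := Submodule.finrank_mono (s := W) (t := Submodule.span F {w}) hcon
    rw [finrank_span_singleton hw0] at h1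
    omega
  set u' := u - (hermForm n F q u w / hermForm n F q w w) • w with hu'def
  have hu'W : u' ∈ W := W.sub_mem hu (W.smul_mem _ hw)
  have hperp : hermForm n F q u' w = 0 := by
    rw [hu'def, sub_eq_add_neg, ← neg_smul, h.add_left, h.smul_left, neg_mul, div_mul_cancel₀ _ hww, add_neg_cancel]
  have hperp' : hermForm n F q w u' = 0 := h.eq_zero_comm hperp
  have hu'0 : u' ≠ 0 := fun e => hu' (by
    rw [sub_eq_zero.mp e]; exact Submodule.smul_mem _ _ (Submodule.mem_span_singleton_self w))
  by_cases huu : hermForm n F q u' u' = 0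
  · exact ⟨u', hu'W, hu'0, huu⟩
  have hfix : σ (-(hermForm n F q u' u') / hermForm n F q w w) = -(hermForm n F q u' u') / hermForm n F q w w := by
    rw [map_div₀, map_neg, ← h.herm, ← h.herm]
  obtain ⟨s, hs, hsb⟩ := hσ.exists_three hfix (div_ne_zero (neg_ne_zero.mpr huu) hww)
  obtain ⟨l, hl⟩ := Finset.card_pos.mp (by omega : 0 < s.card)
  refine ⟨l • w + u', W.add_mem (W.smul_mem _ hw) hu'W, fun e => hu' ?_, ?_⟩
  · rw [show u = (hermForm n F q u w / hermForm n F q w w - l) • w + (l • w + u') by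
      rw [hu'def, sub_smul]; abel, e, add_zero]
    exact Submodule.smul_mem _ _ (Submodule.mem_span_singleton_self w)
  · simp only [h.add_left, h.add_right, h.smul_left, h.smul_right, hperp, hperp', mul_zero, add_zero, zero_add]
    rw [← mul_assoc, (hsb l hl).2, div_mul_cancel₀ _ hww, neg_add_cancel]

/-- The special unitary group normalises no group of symplectic type. -/
theorem su_not_le_typeNormalizer (hQ : Fintype.card F = q ^ 2) (hn : 4 ≤ n) (hnF : (n : F) ≠ 0)
    {R : Subgroup (GL (Fin n) F)} (hR : ScalarComm R) :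
    ¬ GU n F q ⊓ Geo.specialLinear (Fin n) F ≤ Geo.subgroupNormalizer R := by
  classical
  intro hle
  obtain ⟨σ', -, hσ⟩ := exists_isConj hQ
  set σ : F →+* F := (σ' : F →+* F)
  have hh := hσ.herm (n := n)
  haveI : Nonempty (Fin n) := ⟨⟨0, by omega⟩⟩
  obtain ⟨c, hc0, hc⟩ := hσ.exists_skew
  have hnm : ∀ s ∈ GU n F q ⊓ Geo.specialLinear (Fin n) F, ∀ x ∈ R, s * x * s⁻¹ ∈ R := fun s hs x hx =>
    (Subgroup.mem_normalizer_iff.mp (hle hs) x).mp hx
  -- some element moves some isotropic point
  obtain ⟨x, hxR, v, hv, hv0, hxv⟩ : ∃ x ∈ R, ∃ v, hermForm n F q v v = 0 ∧ v ≠ 0 ∧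
      ∀ l : F, (x : Matrix (Fin n) (Fin n) F) *ᵥ v ≠ l • v := by
    by_contra hcon
    push Not at hcon
    refine irr_not_le_scalars (irr_iff.mpr hR.absIrred.1) (by simp; omega) fun x hx => ?_
    -- such an element is diagonal in every basis of isotropic vectors
    obtain ⟨s, hs, hsb⟩ := hσ.exists_three (a := (-1 : F)) (by simp) (by simp)
    obtain ⟨b, hb, b', hb', hbne⟩ := Finset.one_lt_card.mp (show 1 < s.card by omega)
    set M := (x : Matrix (Fin n) (Fin n) F)
    have hpair : ∀ i j : Fin n, i ≠ j → ∀ b ∈ s, ∃ l : F, ∀ k, M k i + b * M k j =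
        l * (Pi.single i 1 + Pi.single j b : Fin n → F) k := by
      intro i j hij b hb
      obtain ⟨l, hl⟩ := hcon x hx _ (hσ.pair_isotropic hij (hsb b hb).2) (fun h0 => by
        simpa [Pi.single_eq_of_ne hij] using congrFun h0 i)
      exact ⟨l, fun k => by simpa [Matrix.mulVec_add, Matrix.mulVec_single, mul_comm b] using congrFun hl k⟩
    have hoff : ∀ k j, k ≠ j → M k j = 0 := by
      intro k j hkj
      obtain ⟨i, hik, hij⟩ := exists_third (by simpa using (show 3 ≤ n by omega)) k j
      obtain ⟨l, hl⟩ := hpair i j hij b hb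
      obtain ⟨l', hl'⟩ := hpair i j hij b' hb'
      have h1 := hl k
      have h2 := hl' k
      simp only [Pi.add_apply, Pi.single_eq_of_ne hik.symm, Pi.single_eq_of_ne hkj, add_zero, mul_zero] at h1 h2
      exact (mul_eq_zero.mp (show (b - b') * M k j = 0 by linear_combination h1 - h2)).resolve_left (sub_ne_zero.mpr hbne)
    have hdiag : ∀ i j, M i i = M j j := by
      intro i j
      rcases eq_or_ne i j with rfl | hij
      · rfl
      obtain ⟨l, hl⟩ := hpair i j hij b hb
      have h1 := hl i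
      have h2 := hl j
      simp only [hoff i j hij, hoff j i hij.symm, Pi.add_apply, Pi.single_eq_same, Pi.single_eq_of_ne hij,
        Pi.single_eq_of_ne hij.symm, mul_zero, add_zero, zero_add, mul_one] at h1 h2
      rw [h1]
      exact (mul_left_cancel₀ (hsb b hb).1 (by linear_combination h2)).symm
    refine mem_scalars_of_smul (c := M ⟨0, by omega⟩ ⟨0, by omega⟩) (Matrix.ext fun i j => ?_)
    show M i j = _
    rcases eq_or_ne i j with rfl | hij
    · simp [hdiag i ⟨0, by omega⟩]
    · simp [hoff i j hij, hij]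
  -- the commutator with the transvection at an isotropic vector
  have key : ∀ x ∈ R, ∀ v, hermForm n F q v v = 0 → v ≠ 0 →
      (∀ l : F, (x : Matrix (Fin n) (Fin n) F) *ᵥ v ≠ l • v) →
      hermForm n F q ((x : Matrix (Fin n) (Fin n) F) *ᵥ v) v ≠ 0 ∧
      ∃ g ∈ R, g ∉ Geo.scalars (Fin n) F ∧
        (∀ u, hermForm n F q u v = 0 → hermForm n F q ((x : Matrix (Fin n) (Fin n) F) *ᵥ u) v = 0 →
          (g : Matrix (Fin n) (Fin n) F) *ᵥ u = u) ∧
        ∀ u, (g : Matrix (Fin n) (Fin n) F) *ᵥ u - u ∈ Submodule.span F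
          {v, ((x⁻¹ : GL (Fin n) F) : Matrix (Fin n) (Fin n) F) *ᵥ v} := by
    intro x hx v hv hv0 hxv
    set X := (x : Matrix (Fin n) (Fin n) F) with hX
    set Xi := ((x⁻¹ : GL (Fin n) F) : Matrix (Fin n) (Fin n) F) with hXi
    have hXX : Xi * X = 1 := by rw [hXi, hX, ← Units.val_mul, inv_mul_cancel, Units.val_one]
    obtain ⟨t, ht, htv⟩ := hσ.exists_transvection hv hc
    set E := rankOne σ v with hE
    have hEu : ∀ u, E *ᵥ u = hermForm n F q u v • v := fun u => hσ.rankOne_mulVec v u
    have hEE : E * E = 0 := Matrix.ext_of_mulVec_single fun j => by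
      rw [← Matrix.mulVec_mulVec, hEu (Pi.single j 1), Matrix.mulVec_smul, hEu v, hv, Matrix.zero_mulVec, zero_smul,
        smul_zero]
    have hti : ((t⁻¹ : GL (Fin n) F) : Matrix (Fin n) (Fin n) F) = 1 - c • E := by
      refine Units.inv_eq_of_mul_eq_one_right ?_
      rw [htv, mul_sub, mul_one, add_mul, one_mul, Matrix.smul_mul, Matrix.mul_smul, hEE, smul_zero, smul_zero,
        add_zero, add_sub_cancel_right]
    set g : GL (Fin n) F := x⁻¹ * (t * x * t⁻¹) with hg
    have hgR : g ∈ R := mul_mem (inv_mem hx) (hnm t ht x hx)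
    have hgv : (g : Matrix (Fin n) (Fin n) F) = (1 + c • (Xi * E * X)) * (1 - c • E) := by
      rw [hg, Units.val_mul, Units.val_mul, Units.val_mul, hti, htv, ← hXi, ← hX, ← mul_assoc, ← mul_assoc]
      congr 1
      rw [mul_add, add_mul, mul_one, hXX, Matrix.mul_smul, Matrix.smul_mul]
    have hgu : ∀ u, (g : Matrix (Fin n) (Fin n) F) *ᵥ u = u - (c * hermForm n F q u v) • v +
        (c * hermForm n F q (X *ᵥ (u - (c * hermForm n F q u v) • v)) v) • Xi *ᵥ v := by
      intro u
      rw [hgv, ← Matrix.mulVec_mulVec, Matrix.sub_mulVec, Matrix.one_mulVec, Matrix.smul_mulVec, hEu, smul_smul,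
        Matrix.add_mulVec, Matrix.one_mulVec, Matrix.smul_mulVec, ← Matrix.mulVec_mulVec, ← Matrix.mulVec_mulVec, hEu,
        Matrix.mulVec_smul, smul_smul]
    have hgns : g ∉ Geo.scalars (Fin n) F := by
      intro hgs
      obtain ⟨d, hd⟩ := (Geo.mem_scalars_iff g).mp hgs
      obtain ⟨u, hu0, hu1, hu2⟩ := exists_mulVec_kills (ι := Fin n) (by simp; omega)
        (fun k => σ (v k)) (Matrix.vecMul (fun k => σ (v k)) X)
      rw [← Matrix.dotProduct_mulVec] at hu2
      have e : ∀ y : Fin n → F, (fun k => σ (v k)) ⬝ᵥ y = hermForm n F q y v := fun y => by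
        simp [dotProduct, hσ.hermForm_apply, mul_comm]
      rw [e] at hu1 hu2
      have h1 := hgu u
      rw [hu1, mul_zero, zero_smul, sub_zero, hu2, mul_zero, zero_smul, add_zero, hd, Matrix.smul_mulVec,
        Matrix.one_mulVec] at h1
      have hd1 : (d : F) = 1 := smul_left_injective F hu0 (h1.trans (one_smul F u).symm)
      rw [hd1, one_smul] at hd
      have h2 : t * x * t⁻¹ = x := (inv_mul_eq_one.mp (show x⁻¹ * (t * x * t⁻¹) = 1 from Units.ext hd)).symm
      have h3 := congrArg Units.val (mul_inv_eq_iff_eq_mul.mp h2)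
      rw [Units.val_mul, Units.val_mul, htv, add_mul, mul_add, one_mul, mul_one, Matrix.smul_mul, Matrix.mul_smul,
        ← hX, add_right_inj] at h3
      have h4 := smul_right_injective _ hc0 h3
      obtain ⟨u, hu⟩ := (hh.nondegenerate v hv0).1
      have h5 := congrArg (fun A => A *ᵥ u) h4
      simp only [← Matrix.mulVec_mulVec, hEu, Matrix.mulVec_smul] at h5
      exact hxv ((hermForm n F q u v)⁻¹ * hermForm n F q (X *ᵥ u) v)
        (by rw [mul_smul, h5, inv_smul_smul₀ hu])
    refine ⟨fun h0 => ?_, g, hgR, hgns, fun u h1 h2 => ?_, fun u => ?_⟩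
    · have htr := hR.trace_eq_zero hgR hgns
      have hw : (fun k => σ (v k)) ⬝ᵥ v = 0 := by rw [← hv]; simp [dotProduct, hσ.hermForm_apply, mul_comm]
      have hw' : (fun k => σ (v k)) ⬝ᵥ (X *ᵥ v) = 0 := by rw [← h0]; simp [dotProduct, hσ.hermForm_apply, mul_comm]
      have t1 : (Xi * E * X).trace = 0 := by
        rw [Matrix.trace_units_conj' x E, hE, rankOne, Matrix.trace_vecMulVec, dotProduct_comm, hw]
      have t2 : E.trace = 0 := by rw [hE, rankOne, Matrix.trace_vecMulVec, dotProduct_comm, hw]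
      have t3 : ((Xi * E * X) * E).trace = 0 := by
        have : E * X * E = 0 := by
          refine Matrix.ext_of_mulVec_single fun j => ?_
          rw [← Matrix.mulVec_mulVec, ← Matrix.mulVec_mulVec, hEu (Pi.single j 1), Matrix.mulVec_smul,
            Matrix.mulVec_smul, hEu (X *ᵥ v), h0, Matrix.zero_mulVec, zero_smul, smul_zero]
        rw [show Xi * E * X * E = Xi * (E * X * E) by simp only [mul_assoc], this, mul_zero, Matrix.trace_zero]
      rw [hgv] at htr
      simp only [mul_sub, add_mul, one_mul, mul_one, Matrix.smul_mul, Matrix.mul_smul, Matrix.trace_add,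
        Matrix.trace_sub, Matrix.trace_smul, Matrix.trace_one, Fintype.card_fin, t1, t2, t3, smul_zero, add_zero,
        sub_zero] at htr
      exact hnF htr
    · rw [hgu, h1, mul_zero, zero_smul, sub_zero, h2, mul_zero, zero_smul, add_zero]
    · rw [hgu, add_sub_right_comm, sub_sub_cancel_left]
      exact Submodule.add_mem _ (Submodule.neg_mem _ (Submodule.smul_mem _ _ (Submodule.subset_span (Set.mem_insert _ _))))
        (Submodule.smul_mem _ _ (Submodule.subset_span (Set.mem_insert_of_mem _ rfl)))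
  obtain ⟨-, g, hgR, hgns, hfix, himg⟩ := key x hxR v hv hv0 hxv
  -- the fixed space and its translate
  let X := (x : Matrix (Fin n) (Fin n) F)
  obtain ⟨y, d, hd, hyg⟩ := hR.exists_twist hgR hgns
  let G := (g : Matrix (Fin n) (Fin n) F)
  let W : Submodule F (Fin n → F) := LinearMap.ker (Matrix.toLin' G - LinearMap.id)
  have hW : ∀ u, u ∈ W ↔ G *ᵥ u = u := fun u => by simp [W, LinearMap.mem_ker, sub_eq_zero]
  let Y := W.map (Matrix.toLin' (y : Matrix (Fin n) (Fin n) F))
  have hd0 : d ≠ 0 := by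
    rintro rfl
    rw [zero_smul, ← Units.val_mul] at hyg
    exact (y * g).ne_zero hyg
  have hY : ∀ u ∈ Y, G *ᵥ u = d⁻¹ • u := by
    rintro _ ⟨u, hu, rfl⟩
    have h1 := congrArg (fun A => A *ᵥ u) hyg
    simp only [← Matrix.mulVec_mulVec, Matrix.smul_mulVec] at h1
    rw [(hW u).mp hu] at h1
    rw [Matrix.toLin'_apply]
    conv_rhs => rw [h1, smul_smul, inv_mul_cancel₀ hd0, one_smul]
  have hdisj : W ⊓ Y = ⊥ := by
    refine (Submodule.eq_bot_iff _).mpr fun u hu => ?_
    have h1 := ((hW u).mp hu.1).symm.trans (hY u hu.2)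
    have h2 : (1 - d⁻¹) • u = 0 := by rw [sub_smul, one_smul, ← h1, sub_self]
    exact (smul_eq_zero.mp h2).resolve_left (sub_ne_zero.mpr fun e => hd (inv_eq_one.mp e.symm))
  have hYrank : finrank F Y = finrank F W :=
    (Submodule.equivMapOfInjective _ (fun a b e => MaxSub.mulVec_injective y (by simpa using e)) W).finrank_eq.symm
  have htwice : 2 * finrank F W ≤ n := by
    have h1 := Submodule.finrank_sup_add_finrank_inf_eq W Y
    have h2 := Submodule.finrank_le (W ⊔ Y)
    rw [Module.finrank_pi, Fintype.card_fin] at h2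
    rw [hdisj, finrank_bot, hYrank] at h1
    omega
  let K : Submodule F (Fin n → F) :=
    LinearMap.ker ((Matrix.toLin' (Matrix.of fun (i : Fin 2) k =>
      (if i = 0 then σ (v k) else Matrix.vecMul (fun k => σ (v k)) X k))))
  have hK : ∀ u ∈ K, hermForm n F q u v = 0 ∧ hermForm n F q (X *ᵥ u) v = 0 := by
    intro u hu
    have e : ∀ y : Fin n → F, (fun k => σ (v k)) ⬝ᵥ y = hermForm n F q y v := fun y => by
      simp [dotProduct, hσ.hermForm_apply, mul_comm]
    have h1 := congrFun (LinearMap.mem_ker.mp hu) 0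
    have h2 := congrFun (LinearMap.mem_ker.mp hu) 1
    rw [Matrix.toLin'_apply] at h1 h2
    exact ⟨(e u).symm.trans h1, by rw [← e, Matrix.dotProduct_mulVec]; exact h2⟩
  have hKdim : n ≤ finrank F K + 2 := by
    have h1 := LinearMap.finrank_range_add_finrank_ker ((Matrix.toLin' (Matrix.of fun (i : Fin 2) k =>
      (if i = 0 then σ (v k) else Matrix.vecMul (fun k => σ (v k)) X k))))
    have h2 := Submodule.finrank_le (LinearMap.range ((Matrix.toLin' (Matrix.of fun (i : Fin 2) k =>
      (if i = 0 then σ (v k) else Matrix.vecMul (fun k => σ (v k)) X k)))))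
    rw [Module.finrank_pi, Fintype.card_fin] at h1 h2
    change _ + finrank F K = n at h1
    omega
  have hKW : K ≤ W := fun u hu => (hW u).mpr (hfix u (hK u hu).1 (hK u hu).2)
  have hKW' := Submodule.finrank_mono hKW
  -- so the dimension is four and the translate contains the vector
  have hn4 : n = 4 := by omega
  have hvY : v ∈ Y := by
    let S : Submodule F (Fin n → F) := Submodule.span F {v, ((x⁻¹ : GL (Fin n) F) : Matrix (Fin n) (Fin n) F) *ᵥ v}
    have hS : finrank F S ≤ 2 := by
      classical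
      have h1 := finrank_span_finset_le_card (R := F)
        ({v, ((x⁻¹ : GL (Fin n) F) : Matrix (Fin n) (Fin n) F) *ᵥ v} : Finset (Fin n → F))
      rw [Finset.coe_insert, Finset.coe_singleton] at h1
      exact le_trans h1 Finset.card_le_two
    have hYS : Y ≤ S := fun u hu => by
      have h1 := himg u
      rw [hY u hu] at h1
      rw [show d⁻¹ • u - u = (d⁻¹ - 1) • u by rw [sub_smul, one_smul]] at h1
      exact (Submodule.smul_mem_iff _ (sub_ne_zero.mpr fun e => hd (inv_eq_one.mp e))).mp h1
    have := Submodule.eq_of_le_of_finrank_le hYS (by omega)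
    rw [this]
    exact Submodule.subset_span (by simp)
  -- a second isotropic eigenvector
  obtain ⟨b, hbK, hb0, hbb⟩ := hσ.exists_isotropic_mem (W := K) (by omega)
  have hbv := (hK b hbK).1
  have hgb : G *ᵥ b = b := hfix b hbv (hK b hbK).2
  have hgv : G *ᵥ v = d⁻¹ • v := hY v hvY
  have huu : hermForm n F q (v + b) (v + b) = 0 := by
    simp only [hh.add_left, hh.add_right, hv, hbb, hbv, hh.eq_zero_comm hbv, add_zero]
  have hune : ∀ l : F, G *ᵥ (v + b) ≠ l • (v + b) := by
    intro l hl
    have hmem : (d⁻¹ - l) • v + (1 - l) • b = 0 := by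
      rw [Matrix.mulVec_add, hgb, hgv] at hl
      rw [sub_smul, sub_smul, one_smul, show d⁻¹ • v - l • v + (b - l • b) = d⁻¹ • v + b - l • (v + b) by
        rw [smul_add]; abel, hl, sub_self]
    have h1 : (d⁻¹ - l) • v ∈ W ⊓ Y := ⟨by
      rw [eq_neg_of_add_eq_zero_left hmem]
      exact W.neg_mem (W.smul_mem _ ((hW b).mpr hgb)), Y.smul_mem _ hvY⟩
    rw [hdisj, Submodule.mem_bot, smul_eq_zero] at h1
    have hl' : l = d⁻¹ := (sub_eq_zero.mp (h1.resolve_right hv0)).symm
    rw [hl', sub_self, zero_smul, zero_add, smul_eq_zero] at hmem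
    exact hd (inv_eq_one.mp (sub_eq_zero.mp (hmem.resolve_right hb0)).symm)
  refine (key g hgR _ huu (fun e => hune 0 (by rw [e, Matrix.mulVec_zero, smul_zero])) hune).1 ?_
  simp only [Matrix.mulVec_add, hgv, hgb, hh.add_left, hh.add_right, hh.smul_left, hv, hbb, hbv, hh.eq_zero_comm hbv,
    mul_zero, add_zero]
  rw [show (g : Matrix (Fin n) (Fin n) F) *ᵥ v = d⁻¹ • v from hgv, show (g : Matrix (Fin n) (Fin n) F) *ᵥ b = b from hgb]
  simp only [hh.smul_left, hv, hbb, hbv, hh.eq_zero_comm hbv, mul_zero, add_zero]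

end Cfsg.Agent.Aschbacher
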