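import Cfsg.Agent.MaxSub.Asch.UnitaryMain
import Cfsg.Agent.Aschbacher.Composite.Cases
import Cfsg.Agent.Aschbacher.Unit.Six
import Cfsg.Agent.Aschbacher.Unit.NotLe

/-!
The maximal subgroups of SU(n, q), n at least four, class by class.
-/

set_option autoImplicit false
set_option linter.unusedSectionVars false
set_option linter.style.haveILetI false

namespace Cfsg.Agent.Aschbacher

open scoped MatrixGroups Matrix
open Module

variable {F : Type*} [Field F] [Fintype F] {n q : ℕ}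

local notation "V" => (Fin n → F)

/-- The stabiliser of a totally isotropic subspace. -/
def SuSub (q : ℕ) (H : Subgroup (GL (Fin n) F)) : Prop :=
  ∃ W : Submodule F V, W ≠ ⊥ ∧ Geo.IsTotallySingularFor (hermForm n F q) W ∧ H = Geo.subspaceStabilizer W ⊓ (GU n F q ⊓ Geo.specialLinear (Fin n) F)

/-- The stabiliser of a non-degenerate subspace. -/
def SuNd (q : ℕ) (H : Subgroup (GL (Fin n) F)) : Prop :=
  ∃ W : Submodule F V, W ≠ ⊥ ∧ Geo.IsNondegenerateOn (hermForm n F q) W ∧ 2 * finrank F W < n ∧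
    H = Geo.subspaceStabilizer W ⊓ (GU n F q ⊓ Geo.specialLinear (Fin n) F)

/-- The stabiliser of an orthogonal decomposition. -/
def SuDec (q t k : ℕ) (H : Subgroup (GL (Fin n) F)) : Prop :=
  ∃ D : Fin t → Submodule F V, Geo.IsNondegenerateMDecomposition (hermForm n F q) k D ∧
    H = Geo.decompositionStabilizer D ⊓ (GU n F q ⊓ Geo.specialLinear (Fin n) F)

/-- The stabiliser of two complementary totally isotropic subspaces. -/
def SuPair (q k : ℕ) (H : Subgroup (GL (Fin n) F)) : Prop :=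
  ∃ D : Fin 2 → Submodule F V, Geo.IsMDecomposition k D ∧
    (∀ i, Geo.IsTotallySingularFor (hermForm n F q) (D i)) ∧ H = Geo.decompositionStabilizer D ⊓ (GU n F q ⊓ Geo.specialLinear (Fin n) F)

/-- A subfield group of odd index. -/
def SuSubfield (q : ℕ) (H : Subgroup (GL (Fin n) F)) : Prop :=
  ∃ (F₀ : Subfield F) (r : ℕ) (P : GL (Fin n) F), r.Prime ∧ Odd r ∧ Fintype.card F = Nat.card F₀ ^ r ∧
    Geo.IsFormRationalStructure (hermForm n F q) F₀ 1 P ∧ H = Geo.subfieldSubgroup F₀ P ⊓ (GU n F q ⊓ Geo.specialLinear (Fin n) F)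

/-- An orthogonal subfield group. -/
def SuOrth (q : ℕ) (H : Subgroup (GL (Fin n) F)) : Prop :=
  Odd q ∧ ∃ (F₀ : Subfield F) (P : GL (Fin n) F), Fintype.card F = Nat.card F₀ ^ 2 ∧
    Geo.IsFormRationalStructure (hermForm n F q) F₀ 1 P ∧ H = Geo.subfieldSubgroup F₀ P ⊓ (GU n F q ⊓ Geo.specialLinear (Fin n) F)

/-- A symplectic subfield group. -/
def SuSymp (q : ℕ) (H : Subgroup (GL (Fin n) F)) : Prop :=
  ∃ (F₀ : Subfield F) (P : GL (Fin n) F) (ζ : F), Fintype.card F = Nat.card F₀ ^ 2 ∧ ζ ≠ 0 ∧ ζ + ζ ^ q = 0 ∧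
    Geo.IsFormRationalStructure (hermForm n F q) F₀ ζ P ∧
    (∀ u : V, (∀ i, u i ∈ F₀) → (hermForm n F q) (Matrix.mulVec (P : Matrix (Fin n) (Fin n) F) u)
      (Matrix.mulVec (P : Matrix (Fin n) (Fin n) F) u) = 0) ∧
    H = Geo.subfieldSubgroup F₀ P ⊓ (GU n F q ⊓ Geo.specialLinear (Fin n) F)

/-- The normaliser of a group of symplectic type with centre of order `z`. -/
def SuSix (q r k z : ℕ) (H : Subgroup (GL (Fin n) F)) : Prop :=
  ∃ (p e : ℕ) (R : Subgroup (GL (Fin n) F)), Geo.IsSymplecticTypeGroup r R ∧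
    Geo.ActsAbsolutelyIrreducibly (Geo.matrixSet R) ∧ R ≤ Geo.similarityGroup (hermForm n F q) ∧ r ≠ p ∧
    Geo.IsMinimalFieldFor z p e F ∧ (r = 2 → e = 2) ∧ Nat.card (Subgroup.center R) = z ∧
    Nat.card R = z * r ^ (2 * k) ∧ H = Geo.subgroupNormalizer R ⊓ (GU n F q ⊓ Geo.specialLinear (Fin n) F)

/-- The normaliser of an extension field. -/
def SuField (q r : ℕ) (H : Subgroup (GL (Fin n) F)) : Prop :=
  ∃ K : Subalgebra F (Matrix (Fin n) (Fin n) F), Geo.IsFieldSubalgebra r K ∧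
    Geo.IsAdjointClosedFor (hermForm n F q) K ∧ H = Geo.subalgebraNormalizer K ⊓ (GU n F q ⊓ Geo.specialLinear (Fin n) F)

/-- The stabiliser of a tensor decomposition. -/
def SuTensor (q a b : ℕ) (H : Subgroup (GL (Fin n) F)) : Prop :=
  ∃ (e : Fin n ≃ Fin a × Fin b) (P : GL (Fin n) F) (f₁ : (Fin a → F) → (Fin a → F) → F)
    (f₂ : (Fin b → F) → (Fin b → F) → F), Geo.IsUnitaryFormPow q f₁ ∧ Geo.IsUnitaryFormPow q f₂ ∧
    Geo.IsTensorFormStructure (fun x : F => x ^ q) (hermForm n F q) f₁ f₂ e P ∧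
    H = Geo.tensorProductSubgroup a b e P ⊓ (GU n F q ⊓ Geo.specialLinear (Fin n) F)

/-- The stabiliser of a tensor square. -/
def SuWreath (q d t : ℕ) (H : Subgroup (GL (Fin n) F)) : Prop :=
  ∃ (e : Fin n ≃ (Fin t → Fin d)) (P : GL (Fin n) F) (f₁ : (Fin d → F) → (Fin d → F) → F),
    Geo.IsUnitaryFormPow q f₁ ∧ Geo.IsTensorPowerFormStructure (fun x : F => x ^ q) (hermForm n F q) f₁ e P ∧
    H = Geo.tensorWreathSubgroup d t e P ⊓ (GU n F q ⊓ Geo.specialLinear (Fin n) F)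

theorem sixCase_data {r k z : ℕ} (hz : (Odd r ∧ z = r) ∨ (r = 2 ∧ z = 4)) {R : Subgroup (GL (Fin n) F)} (hn : 1 ≤ n)
    (hS : Geo.IsSymplecticTypeGroup r R) (habs : Geo.ActsAbsolutelyIrreducibly (Geo.matrixSet R))
    (hZ : Nat.card (Subgroup.center R) = z) (hcard : Nat.card R = z * r ^ (2 * k)) : n = r ^ k := by
  haveI : Nonempty (Fin n) := ⟨⟨0, hn⟩⟩
  have hz0 : 0 < z := by
    rcases hz with ⟨-, rfl⟩ | ⟨-, rfl⟩
    · exact hS.prime.pos
    · norm_num
  simpa using symplecticType_dim hS habs hz0 hZ hcard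

/-- The list, one alternative for each class, for dimensions up to twelve. -/
theorem su_cases (hn : 4 ≤ n) (hn12 : n ≤ 12) (hQ : Fintype.card F = q ^ 2) {H : Subgroup (GL (Fin n) F)}
    (hH : Geo.IsMaximalIn (GU n F q ⊓ Geo.specialLinear (Fin n) F) H) :
    SuSub q H ∨ SuNd q H ∨
    (∃ t k, 2 ≤ t ∧ 1 ≤ k ∧ t * k = n ∧ SuDec q t k H) ∨
    (∃ k, 2 * k = n ∧ SuPair q k H) ∨
    SuSubfield q H ∨ SuOrth q H ∨ (Even n ∧ SuSymp q H) ∨
    (∃ r k z, r.Prime ∧ ((Odd r ∧ z = r) ∨ (r = 2 ∧ z = 4)) ∧ n = r ^ k ∧ SuSix q r k z H) ∨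
    (∃ r, r.Prime ∧ Odd r ∧ r ∣ n ∧ SuField q r H) ∨
    (∃ a b, 2 ≤ a ∧ a < b ∧ a * b = n ∧ SuTensor q a b H) ∨
    (¬ q = 2 ∧ n = 9 ∧ SuWreath q 3 2 H) ∨
    Geo.InUnitaryResidualClass H := by
  classical
  obtain ⟨S⟩ := MaxSub.Asch.nonempty_ufield hQ
  haveI : Nonempty (Fin n) := ⟨⟨0, by omega⟩⟩
  rcases MaxSub.Asch.unitary_structure S (show 3 ≤ n by omega) (hH.1.le.trans inf_le_left) with ⟨M, hM, hle⟩ | hres
  swap
  · iterate 11 right
    exact hres
  have hle' := hle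
  rcases hM with (⟨W, h0, hts, rfl⟩ | ⟨W, h0, hnd, hlt, rfl⟩ | ⟨t, k, D, hD, rfl⟩ | ⟨k, D, hk, hD, hts, rfl⟩ |
      ⟨F₀, r, P, hr, hro, hc, hP, rfl⟩ | ⟨F₀, P, hodd, hc, hP, rfl⟩ | ⟨F₀, P, ζ, hev, hc, hζ0, hζ, hP, hP0, rfl⟩ |
      ⟨r, R, p, e, k, hS, habs, hsim, hrp, hmin, hdata, rfl⟩) |
    ⟨r, K, hr, hro, hK, hac, rfl⟩ | ⟨a, b, e, P, f₁, f₂, ha, hab, hf₁, hf₂, hT, rfl⟩ |
    ⟨d, t, e, P, f₁, hd, ht, hex, hf₁, hT, rfl⟩
  all_goals replace hle := hle.trans inf_le_left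
  · refine Or.inl ⟨W, h0, hts, eq_inf_of_maximal hH hle (su_not_le_subspaceStabilizer hQ h0 ?_)⟩
    rintro rfl
    obtain ⟨σ', -, hσ⟩ := exists_isConj hQ
    obtain ⟨y, hy⟩ := ((hσ.herm (n := n)).nondegenerate (Pi.single ⟨0, by omega⟩ 1) (by simp)).1
    exact hy (hts y trivial _ trivial)
  · refine Or.inr (Or.inl ⟨W, h0, hnd, hlt, eq_inf_of_maximal hH hle (su_not_le_subspaceStabilizer hQ h0 ?_)⟩)
    rintro rfl
    rw [finrank_top, Module.finrank_pi, Fintype.card_fin] at hlt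
    omega
  · right; right; left
    have htk : t * k = n := by
      obtain ⟨b, -⟩ := exists_decomp_basis hD.decomp
      have h1 := Module.finrank_eq_card_basis b
      rw [Module.finrank_pi, Fintype.card_fin, Fintype.card_prod, Fintype.card_fin, Fintype.card_fin] at h1
      exact h1.symm
    refine ⟨t, k, hD.decomp.two_le, hD.decomp.pos, htk, D, hD, eq_inf_of_maximal hH hle ?_⟩
    rcases Nat.lt_or_ge k 2 with hk | hk
    · have hk1 : k = 1 := by have := hD.decomp.pos; omega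
      subst hk1
      obtain rfl : t = n := by rwa [mul_one] at htk
      exact su_not_le_linesStabilizer hQ hn hD
    · exact su_not_le_decompositionStabilizer hQ hD.decomp hk
  · exact Or.inr <| Or.inr <| Or.inr <| Or.inl ⟨k, hk, D, hD, hts,
      eq_inf_of_maximal hH hle (su_not_le_decompositionStabilizer hQ hD (by omega))⟩
  · refine Or.inr <| Or.inr <| Or.inr <| Or.inr <| Or.inl
      ⟨F₀, r, P, hr, hro, hc, hP, eq_inf_of_maximal hH hle (su_not_le_subfieldSubgroup hQ (by omega) ?_ P)⟩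
    exact lt_pow_of_subfield hr hc
  · exact Or.inr <| Or.inr <| Or.inr <| Or.inr <| Or.inr <| Or.inl ⟨hodd, F₀, P, hc, hP,
      eq_inf_of_maximal hH hle (su_not_le_subfieldSubgroup hQ (by omega) (lt_pow_of_subfield Nat.prime_two hc) P)⟩
  · exact Or.inr <| Or.inr <| Or.inr <| Or.inr <| Or.inr <| Or.inr <| Or.inl ⟨hev, F₀, P, ζ, hc, hζ0, hζ, hP, hP0,
      eq_inf_of_maximal hH hle (su_not_le_subfieldSubgroup hQ (by omega) (lt_pow_of_subfield Nat.prime_two hc) P)⟩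
  · iterate 7 right
    left
    obtain ⟨z, hz, he2, hZ, hcard⟩ : ∃ z, ((Odd r ∧ z = r) ∨ (r = 2 ∧ z = 4)) ∧ (r = 2 → e = 2) ∧
        Nat.card (Subgroup.center R) = z ∧ Nat.card R = z * r ^ (2 * k) := by
      rcases hdata with ⟨ho, hZ, -, hc⟩ | ⟨h2, he, hZ, hc⟩
      · exact ⟨r, Or.inl ⟨ho, rfl⟩, fun h => absurd ho (by rw [h]; decide), hZ,
          by rw [hc, pow_add, pow_one]⟩
      · exact ⟨4, Or.inr ⟨h2, rfl⟩, fun _ => he, hZ, by rw [hc, h2, pow_add]; rfl⟩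
    have hdim := sixCase_data hz (by omega) hS habs hZ hcard
    haveI : CharP F p := hmin.2.1
    have hnF : (n : F) ≠ 0 := by
      intro h0
      rw [hdim, Nat.cast_pow] at h0
      have h1 := (pow_eq_zero_iff' (a := (r : F))).mp h0
      rw [CharP.cast_eq_zero_iff F p] at h1
      exact hrp ((Nat.prime_dvd_prime_iff_eq hmin.1 hS.prime).mp h1.1).symm
    exact ⟨r, k, z, hS.prime, hz, hdim, p, e, R, hS, habs, hsim, hrp, hZ ▸ hmin, he2, hZ, hcard,
      eq_inf_of_maximal hH hle (su_not_le_typeNormalizer hQ hn hnF (scalarComm_of_symplecticType hS habs))⟩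
  · iterate 8 right
    left
    exact ⟨r, hr, hro, field_degree_dvd hK |>.trans (by simp), K, hK, hac,
      eq_inf_of_maximal hH hle (su_not_le_subalgebraNormalizer hQ (by omega) hK hr.one_lt)⟩
  · iterate 9 right
    left
    refine ⟨a, b, ha, hab, ?_, e, P, f₁, f₂, hf₁, hf₂, hT,
      eq_inf_of_maximal hH hle (su_not_le_tensorProductSubgroup hQ (by omega) ha (by omega) e P)⟩
    simpa using (Fintype.card_congr e).symm
  · iterate 10 right
    left
    have hcard : d ^ t = n := by simpa using (Fintype.card_congr e).symm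
    obtain ⟨rfl, rfl⟩ : d = 3 ∧ t = 2 := pow_bound hd ht hcard hn12
    exact ⟨fun h => hex ⟨h, rfl⟩, by rw [← hcard]; rfl, e, P, f₁, hf₁, hT,
      eq_inf_of_maximal hH hle (su_not_le_tensorWreathSubgroup hQ (by omega) le_rfl e P)⟩

end Cfsg.Agent.Aschbacher
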