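import Cfsg.Agent.Aschbacher.Unit.Cases
import Cfsg.Agent.Aschbacher.SU52
import Cfsg.Agent.Aschbacher.Symp.Cases

/-!
In SU(6, 2) the normaliser of a degree three field fixes a symplectic structure over the fixed field, up to scalars.
-/

set_option autoImplicit false
set_option linter.unusedSectionVars false
set_option linter.style.haveILetI false
set_option maxHeartbeats 1600000

namespace Cfsg.Agent.Aschbacher

open scoped MatrixGroups Matrix
open Module

variable {F : Type*} [Field F] [Fintype F] {q : ℕ}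

/-- The normaliser of a degree three field in SU(6, 2) is a symplectic subfield group. -/
theorem field_six_two (hQ : Fintype.card F = q ^ 2) (hq : q = 2) {H : Subgroup (GL (Fin 6) F)}
    (hH : Geo.IsMaximalIn (GU 6 F q ⊓ Geo.specialLinear (Fin 6) F) H) (h : SuField q 3 H) : SuSymp q H := by
  classical
  obtain ⟨K, hK, hac, rfl⟩ := h
  subst hq
  have hF : Fintype.card F = 4 := by rw [hQ]; norm_num
  haveI := char_two_of_card_four hF
  obtain ⟨ω, hω⟩ := SU52.exists_omega hF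
  have h2 : (2 : F) = 0 := CharTwo.two_eq_zero
  obtain ⟨σ', -, hσ⟩ := exists_isConj hQ
  set σ : F →+* F := (σ' : F →+* F)
  have hh := hσ.herm (n := 6)
  set f := hermForm 6 F 2 with hfdef
  have hσω : σ ω = ω + 1 := by rw [hσ.apply]; linear_combination hω - (ω + 1) * h2
  haveI : Nontrivial K := ⟨⟨0, 1, fun h => zero_ne_one (congrArg (fun k : K => (k : Matrix (Fin 6) (Fin 6) F)) h)⟩⟩
  letI : CommRing K := { (inferInstance : Ring K) with mul_comm := fun a b => Subtype.ext (hK.comm a a.2 b b.2) }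
  letI : Field K := IsField.toField
    { exists_pair_ne := exists_pair_ne K
      mul_comm := mul_comm
      mul_inv_cancel := fun {a} ha => by
        obtain ⟨y, hy, h⟩ := hK.inv a a.2 (fun h => ha (Subtype.ext h))
        exact ⟨⟨y, hy⟩, Subtype.ext h⟩ }
  haveI : Finite F := Finite.of_fintype F
  haveI : FiniteDimensional F K := Module.finite_of_finrank_eq_succ hK.finrank_eq
  haveI : Finite K := Module.finite_of_finite F
  haveI : Fintype K := Fintype.ofFinite K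
  haveI : CharP K 2 := charP_of_injective_algebraMap (algebraMap F K).injective 2
  have hKcard : Fintype.card K = 64 := by
    rw [Module.card_eq_pow_finrank (K := F) (V := K), hF, hK.finrank_eq]; norm_num
  let T : K → Matrix (Fin 6) (Fin 6) F := fun k => (k : Matrix (Fin 6) (Fin 6) F)
  have hTmul : ∀ k k' : K, T (k * k') = T k * T k' := fun _ _ => rfl
  have hTadd : ∀ k k' : K, T (k + k') = T k + T k' := fun _ _ => rfl
  have hTalg : ∀ c : F, T (algebraMap F K c) = c • 1 := fun c => Algebra.algebraMap_eq_smul_one c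
  have hTsmul : ∀ (c : F) (k : K), T (c • k) = c • T k := fun _ _ => rfl
  have hT1 : T 1 = 1 := rfl
  have hT0 : T 0 = 0 := rfl
  have hTv : ∀ k k' v, T k *ᵥ (T k' *ᵥ v) = T (k * k') *ᵥ v := fun k k' v => Matrix.mulVec_mulVec _ _ _
  -- adjoints
  choose α hα using fun k : K => show ∃ k' : K, ∀ u v, f (T k *ᵥ u) v = f u (T k' *ᵥ v) from by
    obtain ⟨k', hk', h⟩ := hac (T k) k.2
    exact ⟨⟨k', hk'⟩, h⟩
  have hext : ∀ k k' : K, (∀ u v, f u (T k *ᵥ v) = f u (T k' *ᵥ v)) → k = k' := by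
    intro k k' hkk
    refine Subtype.ext (ext_of_span (Submodule.span_univ) fun v _ => ?_)
    by_contra hne
    obtain ⟨u, hu⟩ := (hh.nondegenerate _ (sub_ne_zero.mpr hne)).1
    refine hu ?_
    rw [sub_eq_add_neg, ← neg_one_smul F, hh.add_right, hh.smul_right, hkk u v]
    simp [T]
  let αh : K →+* K :=
    { toFun := α
      map_one' := hext _ _ fun u v => by rw [← hα, hT1, Matrix.one_mulVec, Matrix.one_mulVec]
      map_mul' := fun a b => hext _ _ fun u v => by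
        rw [← hα, hTmul, ← Matrix.mulVec_mulVec, hα, hα, hTv, mul_comm]
      map_zero' := hext _ _ fun u v => by
        rw [← hα, hT0, Matrix.zero_mulVec, Matrix.zero_mulVec, hh.zero_left, hh.zero_right]
      map_add' := fun a b => hext _ _ fun u v => by
        rw [← hα, hTadd, hTadd, Matrix.add_mulVec, Matrix.add_mulVec, hh.add_left, hh.add_right, hα, hα] }
  have hαalg : ∀ c : F, αh (algebraMap F K c) = algebraMap F K (σ c) := fun c => hext _ _ fun u v => by
    show f u (T (α _) *ᵥ v) = _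
    rw [← hα, hTalg, hTalg, Matrix.smul_mulVec, Matrix.smul_mulVec, hh.smul_left, hh.smul_right, hσ.invol,
      Matrix.one_mulVec, Matrix.one_mulVec]
  have hαsmul : ∀ (c : F) k, αh (c • k) = σ c • αh k := fun c k => by
    rw [Algebra.smul_def, Algebra.smul_def, map_mul, hαalg]
  have hαinv : ∀ k, αh (αh k) = k := fun k => hext _ _ fun u v => by
    show f u (T (α (α k)) *ᵥ v) = _
    rw [← hα, hh.herm, ← hα, ← hh.herm]
  have hadj' : ∀ k u v, f u (T k *ᵥ v) = f (T (αh k) *ᵥ u) v := fun k u v => by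
    show _ = f (T (α k) *ᵥ u) v
    rw [hα]
    exact congrArg (fun k' => f u (T k' *ᵥ v)) (hαinv k).symm
  -- functionals
  let ψ : (Fin 6 → F) → (Fin 6 → F) → (K →ₗ[F] F) := fun x y =>
    { toFun := fun k => f (T k *ᵥ x) y
      map_add' := fun a b => by rw [hTadd, Matrix.add_mulVec, hh.add_left]
      map_smul' := fun c a => by rw [hTsmul, Matrix.smul_mulVec, hh.smul_left, RingHom.id_apply, smul_eq_mul] }
  set x0 : Fin 6 → F := Pi.single 0 1 with hx0
  set ψ0 := ψ x0 x0 with hψ0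
  have hψ01 : ψ0 1 = 1 := by
    show f (T 1 *ᵥ x0) x0 = 1
    rw [hT1, Matrix.one_mulVec, hx0, hfdef]
    simp [hermForm, Pi.single_apply]
  have hcompat : ∀ k, ψ0 (αh k) = σ (ψ0 k) := fun k => by
    show f (T (αh k) *ᵥ x0) x0 = σ (f (T k *ᵥ x0) x0)
    rw [← hadj', ← hh.herm]
  let M : K →ₗ[F] (K →ₗ[F] F) :=
    { toFun := fun m =>
        { toFun := fun k => ψ0 (k * m)
          map_add' := fun a b => by rw [add_mul, map_add]
          map_smul' := fun c a => by rw [smul_mul_assoc, map_smul, RingHom.id_apply] }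
      map_add' := fun a b => LinearMap.ext fun k => by
        show ψ0 (k * (a + b)) = ψ0 (k * a) + ψ0 (k * b)
        rw [mul_add, map_add]
      map_smul' := fun c a => LinearMap.ext fun k => by
        show ψ0 (k * (c • a)) = c • ψ0 (k * a)
        rw [mul_smul_comm, map_smul] }
  have hMinj : Function.Injective M := by
    rw [injective_iff_map_eq_zero]
    intro m hm
    by_contra hm0
    have h1 : ψ0 (m⁻¹ * m) = 0 := LinearMap.congr_fun hm m⁻¹
    rw [inv_mul_cancel₀ hm0, hψ01] at h1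
    exact one_ne_zero h1
  have hMsur : Function.Surjective M := (LinearMap.injective_iff_surjective_of_finrank_eq_finrank (by
    rw [Module.finrank_linearMap, Module.finrank_self, mul_one])).mp hMinj
  have huniq : ∀ m m' : K, (∀ k, ψ0 (k * m) = ψ0 (k * m')) → m = m' := fun m m' h => hMinj (LinearMap.ext h)
  have hrepr : ∀ θ : K →ₗ[F] F, ∃ m, ∀ k, θ k = ψ0 (k * m) := fun θ => by
    obtain ⟨m, hm⟩ := hMsur θ
    exact ⟨m, fun k => (LinearMap.congr_fun hm k).symm⟩
  have hfix : ∀ (θ : K →ₗ[F] F) (m : K), (∀ k, θ k = ψ0 (k * m)) → (∀ k, θ (αh k) = σ (θ k)) → αh m = m := by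
    intro θ m hm hc
    refine huniq _ _ fun k => ?_
    have h1 := hc (αh k)
    rw [hαinv, hm, hm, ← hcompat, map_mul αh, hαinv] at h1
    exact h1.symm
  have hψself : ∀ x k, ψ x x (αh k) = σ (ψ x x k) := fun x k => by
    show f (T (αh k) *ᵥ x) x = σ (f (T k *ᵥ x) x)
    rw [← hadj', ← hh.herm]
  -- an isotropic vector for the field
  obtain ⟨e, he0, hee⟩ : ∃ e, e ≠ 0 ∧ ∀ k, f (T k *ᵥ e) e = 0 := by
    let Lx : (Fin 6 → F) →ₗ[F] (K →ₗ[F] F) :=
      { toFun := fun y => ψ y x0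
        map_add' := fun a b => LinearMap.ext fun k => by
          show f (T k *ᵥ (a + b)) x0 = f (T k *ᵥ a) x0 + f (T k *ᵥ b) x0
          rw [Matrix.mulVec_add, hh.add_left]
        map_smul' := fun c a => LinearMap.ext fun k => by
          show f (T k *ᵥ (c • a)) x0 = c * f (T k *ᵥ a) x0
          rw [Matrix.mulVec_smul, hh.smul_left] }
    have hker : LinearMap.ker Lx ≠ ⊥ := by
      intro e'
      have h1 := LinearMap.finrank_range_add_finrank_ker Lx
      have h3 := Submodule.finrank_le (LinearMap.range Lx)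
      rw [Module.finrank_linearMap, Module.finrank_self, mul_one, hK.finrank_eq] at h3
      rw [e', finrank_bot, Module.finrank_pi, Fintype.card_fin] at h1
      omega
    obtain ⟨y, hy, hy0⟩ := (Submodule.ne_bot_iff _).mp hker
    have hyx : ∀ k, f (T k *ᵥ y) x0 = 0 := fun k => LinearMap.congr_fun hy k
    have hxy : ∀ k, f (T k *ᵥ x0) y = 0 := fun k => by rw [hα]; exact hh.eq_zero_comm (hyx _)
    obtain ⟨m, hm⟩ := hrepr (ψ y y)
    rcases eq_or_ne m 0 with rfl | hm0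
    · exact ⟨y, hy0, fun k => by have := hm k; rw [mul_zero, map_zero] at this; exact this⟩
    have hmfix := hfix _ m hm (hψself y)
    have hsqinj : Function.Injective fun x : K => x * x := fun a b h => CharTwo.add_eq_zero.mp
      (mul_self_eq_zero.mp (show (a + b) * (a + b) = 0 by
        rw [CharTwo.add_mul_self, show a * a = b * b from h, CharTwo.add_self_eq_zero]))
    obtain ⟨c, hc : c * c = m⁻¹⟩ := Finite.injective_iff_surjective.mp hsqinj m⁻¹
    have hcfix : αh c = c := hsqinj (show αh c * αh c = c * c by rw [← map_mul, hc, map_inv₀, hmfix])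
    refine ⟨x0 + T c *ᵥ y, fun h0 => ?_, fun k => ?_⟩
    · have h1 : f (x0 + T c *ᵥ y) x0 = 0 := by rw [h0, hh.zero_left]
      rw [hh.add_left, hyx, add_zero] at h1
      have h3 := hψ01
      rw [show ψ0 1 = f (T 1 *ᵥ x0) x0 from rfl, hT1, Matrix.one_mulVec, h1] at h3
      exact zero_ne_one h3
    · have e1 : f (T k *ᵥ (T c *ᵥ y)) x0 = 0 := by rw [hTv]; exact hyx _
      have e2 : f (T k *ᵥ x0) (T c *ᵥ y) = 0 := by rw [hadj', hTv]; exact hxy _
      have e3 : f (T k *ᵥ (T c *ᵥ y)) (T c *ᵥ y) = ψ0 k := by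
        rw [hadj', hTv, hTv, show f (T (αh c * k * c) *ᵥ y) y = ψ y y (αh c * k * c) from rfl, hm, hcfix,
          show c * k * c * m = k * ((c * c) * m) by ring, hc, inv_mul_cancel₀ hm0, mul_one]
      rw [Matrix.mulVec_add, hh.add_left, hh.add_right, hh.add_right, e1, e2, e3, zero_add, add_zero]
      exact CharTwo.add_self_eq_zero _
  -- a partner
  obtain ⟨y, hey, hyy⟩ : ∃ y, (∀ k, f (T k *ᵥ e) y = ψ0 k) ∧ ∀ k, f (T k *ᵥ y) y = 0 := by
    obtain ⟨y1, hy1⟩ := (hh.nondegenerate e he0).1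
    obtain ⟨m, hm⟩ := hrepr (ψ e y1)
    have hm0 : m ≠ 0 := fun h0 => hy1 (by
      have := hm 1
      rw [h0, mul_zero, map_zero, show ψ e y1 1 = f (T 1 *ᵥ e) y1 from rfl, hT1, Matrix.one_mulVec] at this
      first | exact this | exact hh.eq_zero_comm this)
    set y2 := T (αh m⁻¹) *ᵥ y1 with hy2
    have hey2 : ∀ k, f (T k *ᵥ e) y2 = ψ0 k := fun k => by
      rw [hy2, hadj', hαinv, hTv, show f (T (m⁻¹ * k) *ᵥ e) y1 = ψ e y1 (m⁻¹ * k) from rfl, hm,
        show m⁻¹ * k * m = k * (m⁻¹ * m) by ring, inv_mul_cancel₀ hm0, mul_one]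
    obtain ⟨n, hn⟩ := hrepr (ψ y2 y2)
    have hnfix := hfix _ n hn (hψself y2)
    set c := ω • n with hc
    have hcn : c + αh c = n := by
      rw [hc, hαsmul, hnfix, hσω, ← add_smul, show ω + (ω + 1) = 1 by linear_combination ω * h2, one_smul]
    refine ⟨y2 + T c *ᵥ e, fun k => ?_, fun k => ?_⟩
    · rw [hh.add_right, hey2, hadj', hTv, hee, add_zero]
    · have e1 : f (T k *ᵥ (T c *ᵥ e)) y2 = ψ0 (k * c) := by rw [hTv, hey2]
      have e2 : f (T k *ᵥ y2) (T c *ᵥ e) = ψ0 (k * αh c) := by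
        rw [hadj', hTv, hα, hh.herm, hey2, ← hcompat, show α (αh c * k) = αh (αh c * k) from rfl, hαinv, mul_comm]
      have e3 : f (T k *ᵥ (T c *ᵥ e)) (T c *ᵥ e) = 0 := by rw [hadj', hTv, hTv, hee]
      rw [Matrix.mulVec_add, hh.add_left, hh.add_right, hh.add_right, e1, e2, e3, add_zero,
        show f (T k *ᵥ y2) y2 = ψ y2 y2 k from rfl, hn, ← hcn, mul_add, map_add]
      linear_combination (ψ0 (k * c) + ψ0 (k * αh c)) * h2
  -- coordinates over K
  let Φ : (K × K) →ₗ[F] (Fin 6 → F) :=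
    { toFun := fun p => T p.1 *ᵥ e + T p.2 *ᵥ y
      map_add' := fun a b => by simp only [Prod.fst_add, Prod.snd_add, hTadd, Matrix.add_mulVec]; abel
      map_smul' := fun c a => by
        simp only [Prod.smul_fst, Prod.smul_snd, hTsmul, Matrix.smul_mulVec, RingHom.id_apply, smul_add] }
  have hΦT : ∀ k a b, T k *ᵥ Φ (a, b) = Φ (k * a, k * b) := fun k a b => by
    show T k *ᵥ (T a *ᵥ e + T b *ᵥ y) = T (k * a) *ᵥ e + T (k * b) *ᵥ y
    rw [Matrix.mulVec_add, hTv, hTv]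
  have hpair : ∀ a b c d, f (Φ (a, b)) (Φ (c, d)) = ψ0 (a * αh d + b * αh c) := fun a b c d => by
    show f (T a *ᵥ e + T b *ᵥ y) (T c *ᵥ e + T d *ᵥ y) = _
    have e1 : f (T a *ᵥ e) (T c *ᵥ e) = 0 := by rw [hadj', hTv]; exact hee _
    have e2 : f (T b *ᵥ y) (T d *ᵥ y) = 0 := by rw [hadj', hTv]; exact hyy _
    have e3 : f (T a *ᵥ e) (T d *ᵥ y) = ψ0 (a * αh d) := by rw [hadj', hTv, hey, mul_comm]
    have e4 : f (T b *ᵥ y) (T c *ᵥ e) = ψ0 (b * αh c) := by
      rw [hh.herm, hadj', hTv, hey, ← hcompat, map_mul, hαinv]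
    rw [hh.add_left, hh.add_right, hh.add_right, e1, e2, e3, e4, zero_add, add_zero, map_add]
  have hΦinj : Function.Injective Φ := by
    rw [injective_iff_map_eq_zero]
    rintro ⟨a, b⟩ hab
    have h1 : ∀ c d, ψ0 (a * αh d + b * αh c) = 0 := fun c d => by rw [← hpair, hab, hh.zero_left]
    have ha : a = 0 := huniq _ _ fun k => by
      have := h1 0 (αh k)
      rwa [hαinv, map_zero αh, mul_zero, add_zero, mul_comm, ← map_zero ψ0, ← mul_zero k] at this
    have hb : b = 0 := huniq _ _ fun k => by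
      have := h1 (αh k) 0
      rwa [hαinv, map_zero αh, mul_zero, zero_add, mul_comm, ← map_zero ψ0, ← mul_zero k] at this
    exact Prod.ext ha hb
  have hΦsur : Function.Surjective Φ := (LinearMap.injective_iff_surjective_of_finrank_eq_finrank (by
    rw [Module.finrank_prod, hK.finrank_eq, Module.finrank_pi, Fintype.card_fin])).mp hΦinj
  -- the fixed field of the adjoint
  let L : Subfield K := αh.eqLocusField (RingHom.id K)
  have hLmem : ∀ x, x ∈ L ↔ αh x = x := fun x => Iff.rfl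
  obtain ⟨F₀, hF₀c, hmem⟩ := hσ.fixed_subfield
  have hF₀L : ∀ r ∈ F₀, algebraMap F K r ∈ L := fun r hr => by rw [hLmem, hαalg, (hmem r).mp hr]
  obtain ⟨l, hlL, hlF⟩ : ∃ l ∈ L, l ∉ Set.range (algebraMap F K) := by
    by_contra hcon
    push Not at hcon
    have hall : ∀ k : K, k ∈ Set.range (algebraMap F K) := fun k => by
      have hsum : ∀ x, x + αh x ∈ L := fun x => by rw [hLmem, map_add, hαinv, add_comm]
      obtain ⟨s, hs⟩ := hcon (k + αh k) (hsum k)
      obtain ⟨r, hr⟩ := hcon (k + ω • (k + αh k)) (by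
        rw [hLmem, map_add, hαsmul, map_add, hαinv, hσω, add_smul, one_smul, add_comm (αh k) k,
          show αh k + (ω • (k + αh k) + (k + αh k)) = k + ω • (k + αh k) + (αh k + αh k) by abel,
          CharTwo.add_self_eq_zero (αh k), add_zero])
      refine ⟨r + ω * s, ?_⟩
      rw [map_add, map_mul, hs, hr, ← Algebra.smul_def, add_assoc, CharTwo.add_self_eq_zero, add_zero]
    have h1 : Fintype.card K ≤ Fintype.card F :=
      Fintype.card_le_of_surjective (algebraMap F K) fun k => hall k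
    omega
  have hli : LinearIndependent F fun i : Fin 3 => l ^ (i : ℕ) := by
    have hdeg : (minpoly F l).natDegree ∣ 3 := hK.finrank_eq ▸ minpoly.degree_dvd (IsIntegral.of_finite F l)
    have hdeg1 : (minpoly F l).natDegree ≠ 1 := by
      intro h1
      obtain ⟨a, ha⟩ := minpoly.natDegree_eq_one_iff.mp h1
      exact hlF ⟨a, ha⟩
    have hdeg3 : (minpoly F l).natDegree = 3 := ((Nat.dvd_prime (by norm_num)).mp hdeg).resolve_left hdeg1
    have hli := linearIndependent_pow (K := F) l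
    rw [hdeg3] at hli
    exact hli
  let Bl : Basis (Fin 3) F K := basisOfLinearIndependentOfCardEqFinrank hli (by simp [hK.finrank_eq])
  have hBl : ∀ i, Bl i = l ^ (i : ℕ) := fun i => by simp [Bl]
  have hLco : ∀ x, x ∈ L ↔ ∀ i, Bl.equivFun x i ∈ F₀ := fun x => by
    have hx : x = ∑ i, Bl.equivFun x i • l ^ (i : ℕ) := by
      conv_lhs => rw [← Bl.sum_equivFun x]
      simp only [hBl]
    have hax : αh x = ∑ i, σ (Bl.equivFun x i) • l ^ (i : ℕ) := by
      conv_lhs => rw [hx]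
      simp only [map_sum, hαsmul, map_pow, (hLmem l).mp hlL]
    refine ⟨fun hxL i => (hmem _).mpr ?_, fun hco => ?_⟩
    · have h1 : Bl.equivFun (αh x) = fun i => σ (Bl.equivFun x i) := by
        rw [hax, show (∑ i, σ (Bl.equivFun x i) • l ^ (i : ℕ)) = ∑ i, σ (Bl.equivFun x i) • Bl i by simp only [hBl],
          ← Bl.equivFun_symm_apply, LinearEquiv.apply_symm_apply]
      rw [(hLmem x).mp hxL] at h1
      exact (congrFun h1 i).symm
    · rw [hLmem, hax]
      conv_rhs => rw [hx]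
      exact Finset.sum_congr rfl fun i _ => by rw [(hmem _).mp (hco i)]
  have hLcard : Nat.card L = 8 := by
    have hco : ∀ c : Fin 3 → F₀, Bl.equivFun.symm (fun i => (c i : F)) ∈ L := fun c =>
      (hLco _).mpr fun i => by rw [LinearEquiv.apply_symm_apply]; exact (c i).2
    rw [← Nat.card_congr (Equiv.ofBijective (fun c : Fin 3 → F₀ => (⟨_, hco c⟩ : L))
      ⟨fun c d h => funext fun i => Subtype.ext (congrFun (Bl.equivFun.symm.injective (congrArg Subtype.val h)) i),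
        fun x => ⟨fun i => ⟨_, (hLco x).mp x.2 i⟩, Subtype.ext (by simp)⟩⟩), Nat.card_fun, Nat.card_fin, hF₀c]
    norm_num
  -- the rational structure
  let cp : Fin 6 → K × K := ![(1, 0), (l, 0), (l ^ 2, 0), (0, 1), (0, l), (0, l ^ 2)]
  let P₀ : Matrix (Fin 6) (Fin 6) F := Matrix.of fun i j => Φ (cp j) i
  have hP₀ : ∀ u, P₀ *ᵥ u = Φ (Bl.equivFun.symm ![u 0, u 1, u 2], Bl.equivFun.symm ![u 3, u 4, u 5]) := fun u => by
    have e1 : P₀ *ᵥ u = ∑ j, u j • Φ (cp j) := by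
      ext i
      simp [P₀, Matrix.mulVec, dotProduct, Finset.sum_apply, mul_comm]
    rw [e1, show (∑ j, u j • Φ (cp j)) = Φ (∑ j, u j • cp j) by simp only [map_sum, map_smul]]
    congr 1
    simp [Bl.equivFun_symm_apply, Fin.sum_univ_six, Fin.sum_univ_three, hBl, cp]
  have hPdet : P₀.det ≠ 0 := by
    intro h0
    obtain ⟨u, hu, hu'⟩ := Matrix.exists_mulVec_eq_zero_iff.mpr h0
    rw [hP₀, LinearMap.map_eq_zero_iff _ hΦinj, Prod.mk_eq_zero, LinearEquiv.map_eq_zero_iff,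
      LinearEquiv.map_eq_zero_iff] at hu'
    refine hu (funext fun i => ?_)
    fin_cases i
    · exact congrFun hu'.1 0
    · exact congrFun hu'.1 1
    · exact congrFun hu'.1 2
    · exact congrFun hu'.2 0
    · exact congrFun hu'.2 1
    · exact congrFun hu'.2 2
  set P := Matrix.GeneralLinearGroup.mkOfDetNeZero P₀ hPdet with hP
  let W : Set (Fin 6 → F) := {v | ∃ a ∈ L, ∃ b ∈ L, v = Φ (a, b)}
  have hPW : ∀ u : Fin 6 → F, (∀ i, u i ∈ F₀) → P₀ *ᵥ u ∈ W := fun u hu =>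
    ⟨_, (hLco _).mpr fun i => by rw [LinearEquiv.apply_symm_apply]; fin_cases i <;> exact hu _,
      _, (hLco _).mpr fun i => by rw [LinearEquiv.apply_symm_apply]; fin_cases i <;> exact hu _, hP₀ u⟩
  have hWrat : ∀ g : GL (Fin 6) F, (∀ v ∈ W, (g : Matrix (Fin 6) (Fin 6) F) *ᵥ v ∈ W) →
      Rational F₀ ((P⁻¹ * g * P : GL (Fin 6) F) : Matrix (Fin 6) (Fin 6) F) := by
    intro g hg i j
    have hs : ∀ k, (Pi.single j 1 : Fin 6 → F) k ∈ F₀ := fun k => by
      rw [Pi.single_apply]; split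
      · exact one_mem _
      · exact zero_mem _
    obtain ⟨a, ha, b, hb, hgab⟩ := hg _ (hPW _ hs)
    set u : Fin 6 → F := ![Bl.equivFun a 0, Bl.equivFun a 1, Bl.equivFun a 2, Bl.equivFun b 0, Bl.equivFun b 1,
      Bl.equivFun b 2] with hu
    have hPu : P₀ *ᵥ u = Φ (a, b) := by
      rw [hP₀]
      congr 2 <;> (rw [LinearEquiv.symm_apply_eq]; funext i; fin_cases i <;> rfl)
    have hur : u i ∈ F₀ := by
      fin_cases i <;> first | exact (hLco a).mp ha _ | exact (hLco b).mp hb _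
    have h5 : (((P⁻¹ * g * P : GL (Fin 6) F)) : Matrix (Fin 6) (Fin 6) F) *ᵥ Pi.single j 1 = u := by
      rw [Units.val_mul, Units.val_mul, ← Matrix.mulVec_mulVec, ← Matrix.mulVec_mulVec]
      refine MaxSub.mulVec_injective P ?_
      show (P : Matrix (Fin 6) (Fin 6) F) *ᵥ _ = (P : Matrix (Fin 6) (Fin 6) F) *ᵥ _
      rw [MaxSub.mulVec_inv_mulVec, show (P : Matrix (Fin 6) (Fin 6) F) = P₀ from rfl, hPu]
      exact hgab
    have h6 := congrFun h5 i
    rw [Matrix.mulVec_single_one] at h6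
    rw [show ((P⁻¹ * g * P : GL (Fin 6) F) : Matrix (Fin 6) (Fin 6) F) i j = u i from h6]
    exact hur
  have hWdet : ∀ g : GL (Fin 6) F, (∀ v ∈ W, (g : Matrix (Fin 6) (Fin 6) F) *ᵥ v ∈ W) →
      (g : Matrix (Fin 6) (Fin 6) F).det = 1 := by
    intro g hg
    have hr := hWrat g hg
    let A₀ : Matrix (Fin 6) (Fin 6) F₀ := fun i j => ⟨_, hr i j⟩
    have hd : ((P⁻¹ * g * P : GL (Fin 6) F) : Matrix (Fin 6) (Fin 6) F).det ∈ F₀ := by
      rw [show ((P⁻¹ * g * P : GL (Fin 6) F) : Matrix (Fin 6) (Fin 6) F) = F₀.subtype.mapMatrix A₀ from rfl,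
        ← RingHom.map_det]
      exact (A₀.det).2
    rw [Units.val_mul, Units.val_mul, Matrix.det_mul, Matrix.det_mul, mul_right_comm, ← Matrix.det_mul,
      ← Units.val_mul, inv_mul_cancel, Units.val_one, Matrix.det_one, one_mul, hmem, hσ.apply] at hd
    have hne : (g : Matrix (Fin 6) (Fin 6) F).det ≠ 0 := (g.isUnit.map Matrix.detMonoidHom).ne_zero
    exact mul_left_cancel₀ hne (by rw [mul_one, ← sq, hd])
  refine ⟨F₀, P, 1, by rw [hF₀c, hF]; norm_num, one_ne_zero, by rw [one_pow]; exact CharTwo.add_self_eq_zero 1,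
    fun u v hu hv => ?_, fun u hu => ?_, eq_inf_of_maximal hH ?_
      (su_not_le_subfieldSubgroup hQ (by norm_num)
        (lt_pow_of_subfield Nat.prime_two (by rw [hF₀c, hF]; norm_num)) P)⟩
  · obtain ⟨a, ha, b, hb, hu'⟩ := hPW u hu
    obtain ⟨c, hc, d, hd, hv'⟩ := hPW v hv
    show 1 * f (P₀ *ᵥ u) (P₀ *ᵥ v) ∈ F₀
    rw [one_mul, hu', hv', hpair, (hLmem c).mp hc, (hLmem d).mp hd, hmem, ← hcompat, map_add, map_mul, map_mul,
      (hLmem a).mp ha, (hLmem b).mp hb, (hLmem c).mp hc, (hLmem d).mp hd]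
  · obtain ⟨a, ha, b, hb, hu'⟩ := hPW u hu
    show f (P₀ *ᵥ u) (P₀ *ᵥ u) = 0
    rw [hu', hpair, (hLmem a).mp ha, (hLmem b).mp hb, mul_comm b a, CharTwo.add_self_eq_zero, map_zero]
  -- the normaliser
  rintro g ⟨hgK, hgU, hgS⟩
  have hiso : ∀ u v, f ((g : Matrix (Fin 6) (Fin 6) F) *ᵥ u) ((g : Matrix (Fin 6) (Fin 6) F) *ᵥ v) = f u v :=
    mem_GU_iff.mp hgU
  let τ : K → K := fun k => ⟨_, (hgK (T k)).mp k.2⟩
  let τ' : K → K := fun k => ⟨_, ((Geo.subalgebraNormalizer K).inv_mem hgK (T k)).mp k.2⟩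
  have hgT : ∀ k v, (g : Matrix (Fin 6) (Fin 6) F) *ᵥ (T k *ᵥ v) = T (τ k) *ᵥ ((g : Matrix (Fin 6) (Fin 6) F) *ᵥ v) :=
    fun k v => by
      show _ = ((g : Matrix (Fin 6) (Fin 6) F) * T k * ((g⁻¹ : GL (Fin 6) F) : Matrix (Fin 6) (Fin 6) F)) *ᵥ _
      rw [Matrix.mulVec_mulVec, Matrix.mulVec_mulVec, mul_assoc, Units.inv_mul, mul_one]
  have hττ' : ∀ k, τ (τ' k) = k := fun k => Subtype.ext (by
    show (g : Matrix (Fin 6) (Fin 6) F) * (((g⁻¹ : GL (Fin 6) F) : Matrix (Fin 6) (Fin 6) F) * T k *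
      (((g⁻¹)⁻¹ : GL (Fin 6) F) : Matrix (Fin 6) (Fin 6) F)) * ((g⁻¹ : GL (Fin 6) F) : Matrix (Fin 6) (Fin 6) F) = T k
    simp [mul_assoc])
  have hτα : ∀ k, αh (τ k) = τ (αh k) := fun k => hext _ _ fun u v => by
    show f u (T (α (τ k)) *ᵥ v) = _
    obtain ⟨u', rfl⟩ : ∃ u', u = (g : Matrix (Fin 6) (Fin 6) F) *ᵥ u' := ⟨_, (mulVec_inv_mulVec g u).symm⟩
    obtain ⟨v', rfl⟩ : ∃ v', v = (g : Matrix (Fin 6) (Fin 6) F) *ᵥ v' := ⟨_, (mulVec_inv_mulVec g v).symm⟩
    rw [← hα, ← hgT, hiso, ← hgT, hiso, hα]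
    rfl
  have hτL : ∀ k ∈ L, τ k ∈ L := fun k hk => by rw [hLmem, hτα, (hLmem k).mp hk]
  obtain ⟨⟨A, C⟩, hge⟩ := hΦsur ((g : Matrix (Fin 6) (Fin 6) F) *ᵥ e)
  obtain ⟨⟨B', D'⟩, hgy⟩ := hΦsur ((g : Matrix (Fin 6) (Fin 6) F) *ᵥ y)
  have hval : ∀ x y' k, f (T k *ᵥ ((g : Matrix (Fin 6) (Fin 6) F) *ᵥ x)) ((g : Matrix (Fin 6) (Fin 6) F) *ᵥ y') =
      f (T (τ' k) *ᵥ x) y' := fun x y' k => by
    conv_lhs => rw [← hττ' k, ← hgT, hiso]
  have hzero : ∀ x, (∀ k, ψ0 (k * x) = 0) → x = 0 := fun x hx => huniq _ _ fun k => by rw [hx, mul_zero, map_zero]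
  have hAC : A * αh C + C * αh A = 0 := hzero _ fun k => by
    have h1 := hval e e k
    rw [hee, ← hge, hΦT, hpair, mul_assoc, mul_assoc, ← mul_add] at h1
    exact h1
  have hBD : B' * αh D' + D' * αh B' = 0 := hzero _ fun k => by
    have h1 := hval y y k
    rw [hyy, ← hgy, hΦT, hpair, mul_assoc, mul_assoc, ← mul_add] at h1
    exact h1
  set m := A * αh D' + C * αh B' with hmdef
  have hθ : ∀ k, ψ ((g : Matrix (Fin 6) (Fin 6) F) *ᵥ e) ((g : Matrix (Fin 6) (Fin 6) F) *ᵥ y) k = ψ0 (k * m) :=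
    fun k => by
      show f (T k *ᵥ _) _ = _
      rw [← hge, ← hgy, hΦT, hpair, hmdef, mul_add, mul_assoc, mul_assoc]
  have hθ' : ∀ k, ψ ((g : Matrix (Fin 6) (Fin 6) F) *ᵥ e) ((g : Matrix (Fin 6) (Fin 6) F) *ᵥ y) k = ψ0 (τ' k) :=
    fun k => (hval e y k).trans (hey _)
  have hτ'α : ∀ k, τ' (αh k) = αh (τ' k) := fun k => by
    have hinj : Function.Injective τ := fun a b hab => by
      have h1 := congrArg T hab
      change (g : Matrix (Fin 6) (Fin 6) F) * T a * ((g⁻¹ : GL (Fin 6) F) : Matrix (Fin 6) (Fin 6) F) =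
        (g : Matrix (Fin 6) (Fin 6) F) * T b * ((g⁻¹ : GL (Fin 6) F) : Matrix (Fin 6) (Fin 6) F) at h1
      exact Subtype.ext ((g.mul_right_inj).mp ((g⁻¹).mul_left_inj.mp h1))
    refine hinj ?_
    rw [hττ', ← hτα, hττ']
  have hmfix : αh m = m := hfix _ m hθ fun k => by rw [hθ', hθ', hτ'α, hcompat]
  have hm0 : m ≠ 0 := fun h0 => by
    have h1 := (hθ 1).symm.trans (hθ' 1)
    rw [h0, mul_zero, map_zero, show τ' 1 = 1 from Subtype.ext (by
      show ((g⁻¹ : GL (Fin 6) F) : Matrix (Fin 6) (Fin 6) F) * T 1 * _ = T 1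
      simp [hT1]), hψ01] at h1
    exact zero_ne_one h1
  have hpick : ∀ A C : K, A * αh C + C * αh A = 0 → (A ≠ 0 ∨ C ≠ 0) →
      ∃ μ a c, μ ≠ 0 ∧ a ∈ L ∧ c ∈ L ∧ A = μ * a ∧ C = μ * c := by
    intro A C hrel hne
    rcases eq_or_ne A 0 with hA | hA
    · refine ⟨C, 0, 1, hne.resolve_left (not_not.mpr hA), zero_mem _, one_mem _, by rw [mul_zero, hA], by rw [mul_one]⟩
    · refine ⟨A, 1, C / A, hA, one_mem _, ?_, by rw [mul_one], (mul_div_cancel₀ C hA).symm⟩
      rw [hLmem, map_div₀, div_eq_div_iff ((map_ne_zero αh).mpr hA) hA, mul_comm (αh C)]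
      exact CharTwo.add_eq_zero.mp hrel
  obtain ⟨μ, a, c, hμ, ha, hc, rfl, rfl⟩ := hpick A C hAC (by
    by_contra hcon
    push Not at hcon
    exact hm0 (by rw [hmdef, hcon.1, hcon.2, zero_mul, zero_mul, add_zero]))
  obtain ⟨ν, b, d, hν, hb, hd, rfl, rfl⟩ := hpick B' D' hBD (by
    by_contra hcon
    push Not at hcon
    exact hm0 (by rw [hmdef, hcon.1, hcon.2, map_zero, mul_zero, mul_zero, add_zero]))
  have hmeq : m = μ * αh ν * (a * d + c * b) := by
    rw [hmdef, map_mul, map_mul, (hLmem b).mp hb, (hLmem d).mp hd]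
    ring
  have hadcb : a * d + c * b ≠ 0 := fun h0 => hm0 (by rw [hmeq, h0, mul_zero])
  have hμν : αh (μ * αh ν) = μ * αh ν := by
    have h1 := hmfix
    rw [hmeq, map_mul, map_add, map_mul αh a, map_mul αh c, (hLmem a).mp ha, (hLmem b).mp hb, (hLmem c).mp hc,
      (hLmem d).mp hd] at h1
    exact mul_right_cancel₀ hadcb h1
  set ρ := ν / μ with hρdef
  have hρ : ρ ∈ L := by
    rw [hLmem, hρdef, map_div₀, div_eq_div_iff ((map_ne_zero αh).mpr hμ) hμ]
    rw [map_mul, hαinv] at hμν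
    linear_combination -hμν
  have hρν : ν = μ * ρ := (mul_div_cancel₀ ν hμ).symm
  let G : Kˣ →* GL (Fin 6) F := Units.map (Subalgebra.val K : K →* Matrix (Fin 6) (Fin 6) F)
  set μu := Units.mk0 μ hμ
  set g0 := (G μu)⁻¹ * g with hg0
  have hg0v : ∀ v, (g0 : Matrix (Fin 6) (Fin 6) F) *ᵥ v = T μ⁻¹ *ᵥ ((g : Matrix (Fin 6) (Fin 6) F) *ᵥ v) := fun v => by
    rw [hg0, Units.val_mul, ← Matrix.mulVec_mulVec, ← map_inv]
    rfl
  have hg0W : ∀ v ∈ W, (g0 : Matrix (Fin 6) (Fin 6) F) *ᵥ v ∈ W := by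
    rintro _ ⟨x, hx, z, hz, rfl⟩
    refine ⟨τ x * a + τ z * (ρ * b), add_mem (mul_mem (hτL x hx) ha) (mul_mem (hτL z hz) (mul_mem hρ hb)),
      τ x * c + τ z * (ρ * d), add_mem (mul_mem (hτL x hx) hc) (mul_mem (hτL z hz) (mul_mem hρ hd)), ?_⟩
    rw [hg0v, show Φ (x, z) = T x *ᵥ e + T z *ᵥ y from rfl, Matrix.mulVec_add, hgT, hgT, ← hge, ← hgy, hΦT, hΦT,
      ← map_add, Prod.mk_add_mk, hΦT]
    congr 2 <;> (rw [hρν]; field_simp)
  have hTdet : ∀ k : K, (T k).det = Algebra.norm F k * Algebra.norm F k := by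
    intro k
    let E := LinearEquiv.ofBijective Φ ⟨hΦinj, hΦsur⟩
    have he : Matrix.toLin' (T k) = (E : (K × K) →ₗ[F] (Fin 6 → F)) ∘ₗ
        ((Algebra.lmul F K k).prodMap (Algebra.lmul F K k)) ∘ₗ (E.symm : (Fin 6 → F) →ₗ[F] (K × K)) := by
      refine LinearMap.ext fun v => ?_
      obtain ⟨⟨a, b⟩, rfl⟩ := hΦsur v
      rw [Matrix.toLin'_apply, hΦT, LinearMap.comp_apply, LinearMap.comp_apply]
      have : E.symm (Φ (a, b)) = (a, b) := E.symm_apply_apply (a, b)
      show _ = E (((Algebra.lmul F K k).prodMap (Algebra.lmul F K k)) (E.symm (Φ (a, b))))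
      rw [this]
      rfl
    rw [← LinearMap.det_toLin', he, LinearMap.det_conj, LinearMap.det_prodMap]
    rfl
  have hN : Algebra.norm F μ * Algebra.norm F μ = 1 := by
    have h1 : (g : Matrix (Fin 6) (Fin 6) F).det = 1 := det_eq_one_of_mem hgS
    rw [show g = G μu * g0 by rw [hg0, mul_inv_cancel_left], Units.val_mul, Matrix.det_mul, hWdet g0 hg0W, mul_one]
      at h1
    rw [← hTdet]
    exact h1
  have hμ21 : μ ^ 21 = 1 := by
    have h1 := FiniteField.algebraMap_norm_eq_pow (K := F) (K' := K) (x := μ)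
    rw [Nat.card_eq_fintype_card, Nat.card_eq_fintype_card, hKcard, hF] at h1
    have h3 : Algebra.norm F μ ^ 3 = 1 := by
      have := FiniteField.pow_card_sub_one_eq_one _ ((Algebra.norm_ne_zero_iff (R := F)).mpr hμ)
      rwa [hF] at this
    have h4 : Algebra.norm F μ = 1 := by
      calc Algebra.norm F μ = Algebra.norm F μ * (Algebra.norm F μ * Algebra.norm F μ) := by rw [hN, mul_one]
        _ = 1 := by rw [← h3]; ring
    rw [h4, map_one] at h1
    exact h1.symm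
  obtain ⟨c0, hc0⟩ : μ ^ 7 ∈ Set.range (algebraMap F K) := by
    have hw : (algebraMap F K ω) ^ 2 + algebraMap F K ω + 1 = 0 := by simpa using congrArg (algebraMap F K) hω
    have h3 : (μ ^ 7 - 1) * ((μ ^ 7 - algebraMap F K ω) * (μ ^ 7 - (algebraMap F K ω + 1))) = 0 := by
      linear_combination hμ21 + (μ ^ 7 - 1) * hw - (μ ^ 7 - 1) * (algebraMap F K ω * μ ^ 7 + μ ^ 7 + 1) *
        (CharTwo.two_eq_zero : (2 : K) = 0)
    rcases mul_eq_zero.mp h3 with h | h
    · exact ⟨1, by rw [map_one, sub_eq_zero.mp h]⟩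
    · rcases mul_eq_zero.mp h with h | h
      · exact ⟨ω, (sub_eq_zero.mp h).symm⟩
      · exact ⟨ω + 1, by rw [map_add, map_one, sub_eq_zero.mp h]⟩
  have hv : μ ^ 15 ∈ L := by
    rw [mem_subfield_iff_pow, hLcard, ← pow_mul, show 15 * 8 = 21 * 5 + 15 by norm_num, pow_add, pow_mul, hμ21,
      one_pow, one_mul]
  have hc00 : c0 ≠ 0 := fun h0 => pow_ne_zero 7 hμ (by rw [← hc0, h0, map_zero])
  have hμeq : μ = c0 • μ ^ 15 := by
    rw [Algebra.smul_def, hc0, ← pow_add, show 7 + 15 = 21 + 1 by norm_num, pow_succ, hμ21, one_mul]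
  refine mem_subfieldSubgroup (c := c0⁻¹) (inv_ne_zero hc00) ?_
  set g1 := G (μu ^ 15) * g0 with hg1
  have hgval : (g : Matrix (Fin 6) (Fin 6) F) = c0 • (g1 : Matrix (Fin 6) (Fin 6) F) := by
    have hgg : (g : Matrix (Fin 6) (Fin 6) F) = (G μu : Matrix (Fin 6) (Fin 6) F) * (g0 : Matrix (Fin 6) (Fin 6) F) := by
      rw [← Units.val_mul, hg0, mul_inv_cancel_left]
    refine hgg.trans ?_
    rw [show ((g1 : GL (Fin 6) F) : Matrix (Fin 6) (Fin 6) F) = (G (μu ^ 15) : Matrix (Fin 6) (Fin 6) F) *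
      (g0 : Matrix (Fin 6) (Fin 6) F) from rfl, ← Matrix.smul_mul]
    refine congrArg (· * (g0 : Matrix (Fin 6) (Fin 6) F)) ?_
    show T μ = c0 • T ((μu ^ 15 : Kˣ) : K)
    rw [← hTsmul, Units.val_pow_eq_pow_val, Units.val_mk0, ← hμeq]
  have hg1W : ∀ v ∈ W, (g1 : Matrix (Fin 6) (Fin 6) F) *ᵥ v ∈ W := fun v hvW => by
    obtain ⟨x, hx, z, hz, hxz⟩ := hg0W v hvW
    refine ⟨μ ^ 15 * x, mul_mem hv hx, μ ^ 15 * z, mul_mem hv hz, ?_⟩
    rw [hg1, Units.val_mul, ← Matrix.mulVec_mulVec, hxz, ← hΦT]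
    rfl
  rw [Units.val_mul, Units.val_mul, hgval, Matrix.mul_smul, Matrix.smul_mul, smul_smul, inv_mul_cancel₀ hc00,
    one_smul, ← Units.val_mul, ← Units.val_mul]
  exact hWrat g1 hg1W

end Cfsg.Agent.Aschbacher
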