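import Cfsg.Agent.Aschbacher.Composite.FourFive

/-!
Signed translations on four points with fourth roots of unity as scalars.
-/

set_option autoImplicit false
set_option linter.unusedSectionVars false
set_option linter.style.haveILetI false

namespace Cfsg.Agent.Aschbacher.FourNine

open scoped MatrixGroups Matrix
open Module

variable {ι : Type} [Fintype ι] [DecidableEq ι] {F : Type*} [Field F]
variable (b : Module.Basis Pt F (ι → F))

/-- The signed translations with fourth roots of unity as scalars. -/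
def pauliFour : Subgroup (GL ι F) where
  carrier := {g | ∃ s a c, c ^ 4 = 1 ∧ IsPauli b g s a c}
  one_mem' := ⟨0, 0, 1, one_pow 4, one_ne_zero, fun i => by simp [chi_zero]⟩
  mul_mem' := by
    rintro g g' ⟨s, a, c, h4, hc, hg⟩ ⟨s', a', c', h4', hc', hg'⟩
    refine ⟨s' + s, a + a', c * c' * chi F a s', ?_, mul_ne_zero (mul_ne_zero hc hc') (chi_ne_zero _ _), fun i => ?_⟩
    · rw [mul_pow, mul_pow, h4, h4', one_mul, one_mul, show (4 : ℕ) = 2 * 2 from rfl, pow_mul, pow_two (chi F a s'),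
        chi_sq, one_pow]
    · rw [Units.val_mul, ← Matrix.mulVec_mulVec, hg', Matrix.mulVec_smul, hg, smul_smul, chi_add_right, chi_add_left,
        add_assoc]
      congr 1
      ring
  inv_mem' := by
    rintro g ⟨s, a, c, h4, hc, hg⟩
    refine ⟨s, a, c⁻¹ * chi F a s, ?_, mul_ne_zero (inv_ne_zero hc) (chi_ne_zero _ _), fun i => ?_⟩
    · rw [mul_pow, inv_pow, h4, inv_one, one_mul, show (4 : ℕ) = 2 * 2 from rfl, pow_mul, pow_two (chi F a s), chi_sq,
        one_pow]
    refine mulVec_gl_inj g ?_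
    show (g : Matrix ι ι F) *ᵥ _ = (g : Matrix ι ι F) *ᵥ _
    rw [mulVec_inv_mulVec, Matrix.mulVec_smul, hg, smul_smul, chi_add_right, add_assoc, pt_add_self, add_zero]
    have h1 : c⁻¹ * chi F a s * chi F a i * (c * (chi F a i * chi F a s)) = 1 := by
      calc _ = (c⁻¹ * c) * ((chi F a i * chi F a i) * (chi F a s * chi F a s)) := by ring
        _ = 1 := by rw [inv_mul_cancel₀ hc, chi_sq, chi_sq, one_mul, one_mul]
    rw [h1, one_smul]

section Four

variable {b} [Fintype F] {I : F} (h2 : (2 : F) ≠ 0)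
include h2

theorem four_ne4 : (4 : F) ≠ 0 := by
  rw [show (4 : F) = 2 * 2 by norm_num]
  exact mul_ne_zero h2 h2

theorem chi_separates4 {i j : Pt} (h : i ≠ j) : ∃ a, chi F a i ≠ chi F a j := by
  obtain ⟨a, ha⟩ := sgn_separates i j h
  refine ⟨a, fun he => ?_⟩
  rcases sgn_eq a i with h1 | h1 <;> rcases sgn_eq a j with h3 | h3 <;> rw [chi, chi, h1, h3] at he
  · exact ha (h1.trans h3.symm)
  · exact h2 (by push_cast at he; linear_combination he)
  · exact h2 (by push_cast at he; linear_combination -he)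
  · exact ha (h1.trans h3.symm)

theorem unique4 {g : GL ι F} {s a s' a' : Pt} {c c' : F} (h : IsPauli b g s a c) (h' : IsPauli b g s' a' c') :
    s = s' ∧ a = a' ∧ c = c' := by
  have h0 := (h.2 0).symm.trans (h'.2 0)
  simp only [zero_add, chi_comm _ 0, chi_zero, mul_one] at h0
  have hs : s = s' := by
    by_contra hne
    have := congrArg (fun w => b.equivFun w s) h0
    simp [Ne.symm hne] at this
    exact h.1 this
  subst hs
  have hc : c = c' := smul_left_injective F (b.ne_zero s) h0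
  subst hc
  refine ⟨rfl, ?_, rfl⟩
  by_contra hne
  obtain ⟨i, hi⟩ := chi_separates4 h2 hne
  refine hi ?_
  rw [chi_comm i a, chi_comm i a']
  exact mul_left_cancel₀ h.1 (smul_left_injective F (b.ne_zero _) ((h.2 i).symm.trans (h'.2 i)))

theorem pauli_absIrred : Geo.ActsAbsolutelyIrreducibly (Geo.matrixSet (pauliFour b)) := by
  have hdiag : ∀ a, ∃ g ∈ pauliFour b, IsPauli b g 0 a 1 := fun a => by
    obtain ⟨g, hg⟩ := exists_pauli b 0 a one_ne_zero
    exact ⟨g, ⟨0, a, 1, one_pow 4, hg⟩, hg⟩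
  have htr : ∀ s, ∃ g ∈ pauliFour b, IsPauli b g s 0 1 := fun s => by
    obtain ⟨g, hg⟩ := exists_pauli b s 0 one_ne_zero
    exact ⟨g, ⟨s, 0, 1, one_pow 4, hg⟩, hg⟩
  refine ⟨fun W hW => or_iff_not_imp_left.mpr fun hne => ?_, fun M hM => ?_⟩
  · have hinv : ∀ g ∈ pauliFour b, ∀ w ∈ W, (g : Matrix ι ι F) *ᵥ w ∈ W := fun g hg w hw =>
      hW _ ⟨g, hg, rfl⟩ ⟨w, hw, by simp⟩
    obtain ⟨v, hv, hv0⟩ := (Submodule.ne_bot_iff _).mp hne
    obtain ⟨j, hj⟩ := Function.ne_iff.mp (b.equivFun.map_ne_zero_iff.mpr hv0)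
    choose g hg hgp using hdiag
    have hsum : (∑ a, chi F a j • ((g a : Matrix ι ι F) *ᵥ v)) = (4 * b.equivFun v j) • b j := by
      apply b.equivFun.injective
      funext k
      have hk : ∀ a, b.equivFun ((g a : Matrix ι ι F) *ᵥ v) k = chi F a k * b.equivFun v k := fun a => by
        simpa using (hgp a).coord v k
      simp only [map_sum, map_smul, Finset.sum_apply, Pi.smul_apply, smul_eq_mul, hk, ← mul_assoc, ← Finset.sum_mul,
        Module.Basis.equivFun_self]
      have hs : (∑ a, chi F a j * chi F a k) = if j = k then 4 else 0 := by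
        simp only [chi, ← Int.cast_mul, ← Int.cast_sum, sgn_sum]
        split_ifs <;> simp
      rw [hs]
      rcases eq_or_ne j k with rfl | hjk
      · simp
      · simp [hjk]
    have hbj : b j ∈ W := by
      have h1 : (4 * b.equivFun v j) • b j ∈ W :=
        hsum ▸ W.sum_mem fun a _ => W.smul_mem _ (hinv _ (hg a) v hv)
      exact (Submodule.smul_mem_iff W (mul_ne_zero (four_ne4 h2) hj)).mp h1
    refine top_le_iff.mp fun u _ => ?_
    rw [← b.sum_equivFun u]
    refine W.sum_mem fun k _ => W.smul_mem _ ?_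
    obtain ⟨t, ht, htp⟩ := htr (j + k)
    have h1 := hinv t ht _ hbj
    rwa [htp.2, chi_zero, mul_one, one_smul, ← add_assoc, pt_add_self, zero_add] at h1
  · have hM' : ∀ g ∈ pauliFour b, ∀ v, M *ᵥ ((g : Matrix ι ι F) *ᵥ v) = (g : Matrix ι ι F) *ᵥ (M *ᵥ v) :=
      fun g hg v => by rw [Matrix.mulVec_mulVec, Matrix.mulVec_mulVec, hM _ ⟨g, hg, rfl⟩]
    have hdg : ∀ i k, k ≠ i → b.equivFun (M *ᵥ b i) k = 0 := by
      intro i k hki
      obtain ⟨a, ha⟩ := chi_separates4 h2 hki
      obtain ⟨g, hg, hgp⟩ := hdiag a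
      have h1 := congrArg (fun w => b.equivFun w k) (hM' g hg (b i))
      have h2 := hgp.coord (M *ᵥ b i) k
      simp only [hgp.2, add_zero, one_mul, Matrix.mulVec_smul, map_smul, Pi.smul_apply, smul_eq_mul] at h1 h2
      rw [h2] at h1
      by_contra h0
      exact ha (mul_right_cancel₀ h0 h1).symm
    refine ⟨b.equivFun (M *ᵥ b 0) 0, eq_smul_one_of_span b.span_eq ?_⟩
    rintro _ ⟨i, rfl⟩
    have hexp : ∀ i, M *ᵥ b i = b.equivFun (M *ᵥ b i) i • b i := fun i => by
      conv_lhs => rw [← b.sum_equivFun (M *ᵥ b i)]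
      exact Finset.sum_eq_single i (fun k _ hk => by rw [hdg i k hk, zero_smul]) (by simp)
    obtain ⟨t, ht, htp⟩ := htr i
    have h1 := congrArg (fun w => b.equivFun w (0 + i)) (hM' t ht (b 0))
    have h2 := htp.coord (M *ᵥ b 0) 0
    simp only [htp.2 0, chi_zero, mul_one, one_smul, one_mul, zero_add] at h1 h2
    rw [hexp i, h1, h2]

theorem pauli_center_iff (x : pauliFour b) :
    x ∈ Subgroup.center (pauliFour b) ↔ (x : GL ι F) ∈ Geo.scalars ι F := by
  haveI : Nonempty ι := not_isEmpty_iff.mp fun h => b.ne_zero 0 (Subsingleton.elim _ _)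
  constructor
  · intro hx
    exact mem_scalars_of_commute (pauli_absIrred h2) fun y hy =>
      (congrArg Subtype.val (Subgroup.mem_center_iff.mp hx ⟨y, hy⟩)).symm
  · intro hx
    exact Subgroup.mem_center_iff.mpr fun y => Subtype.ext (scalars_central hx _)

omit h2 in
theorem scalar_isPauli {z : GL ι F} {c : Fˣ} (hz : (z : Matrix ι ι F) = (c : F) • 1) : IsPauli b z 0 0 c :=
  ⟨c.ne_zero, fun i => by rw [hz, Matrix.smul_mulVec, Matrix.one_mulVec, chi_zero, mul_one, add_zero]⟩

theorem pauli_card (hI : I * I = -1) :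
    Nat.card (pauliFour b) = 64 ∧ Nat.card (Subgroup.center (pauliFour b)) = 4 := by
  haveI : Nonempty ι := not_isEmpty_iff.mp fun h => b.ne_zero 0 (Subsingleton.elim _ _)
  have hI0 : I ≠ 0 := fun h => one_ne_zero (show (1 : F) = 0 by rw [h, mul_zero] at hI; linear_combination hI)
  have hI1 : IsPrimitiveRoot I 4 := by
    refine (IsPrimitiveRoot.iff (by norm_num)).mpr ⟨by linear_combination (I * I - 1) * hI, fun l hl0 hl => ?_⟩
    interval_cases l
    · intro h
      rw [pow_one] at h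
      exact h2 (by rw [h] at hI; linear_combination hI)
    · intro h
      exact h2 (by linear_combination -h + hI)
    · intro h
      have hm : I = -1 := by linear_combination -h + I * hI
      exact h2 (by rw [hm] at hI; linear_combination hI)
  haveI : NeZero (4 : ℕ) := ⟨by norm_num⟩
  have hu : Nat.card (rootsOfUnity 4 F) = 4 := hI1.card_rootsOfUnity
  have hu4 : ∀ c : rootsOfUnity 4 F, ((c : Fˣ) : F) ^ 4 = 1 := fun c => by
    rw [← Units.val_pow_eq_pow_val, (mem_rootsOfUnity 4 _).mp c.2, Units.val_one]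
  constructor
  · choose g hg using fun x : Pt × Pt × rootsOfUnity 4 F =>
      exists_pauli b x.1 x.2.1 (c := ((x.2.2 : Fˣ) : F)) (x.2.2 : Fˣ).ne_zero
    rw [← Nat.card_eq_of_bijective
      (fun x : Pt × Pt × rootsOfUnity 4 F => (⟨g x, _, _, _, hu4 x.2.2, hg x⟩ : pauliFour b)) ⟨?_, ?_⟩,
      Nat.card_prod, Nat.card_prod]
    · rw [Nat.card_prod, Nat.card_prod, hu]
      simp
    · intro x x' he
      have he' : g x = g x' := congrArg Subtype.val he
      have hx' := hg x'
      rw [← he'] at hx'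
      obtain ⟨e1, e2, e3⟩ := unique4 h2 (hg x) hx'
      exact Prod.ext e1 (Prod.ext e2 (Subtype.ext (Units.ext e3)))
    · rintro ⟨y, s, a, c, hc4, hy⟩
      refine ⟨(s, a, ⟨Units.mk0 c hy.1, (mem_rootsOfUnity 4 _).mpr (Units.ext hc4)⟩),
        Subtype.ext (Units.ext (ext_of_span b.span_eq ?_))⟩
      rintro _ ⟨i, rfl⟩
      exact ((hg _).2 i).trans (hy.2 i).symm
  · rw [← hu]
    let z : Fˣ → GL ι F := Units.map (Matrix.scalar ι : F →+* Matrix ι ι F).toMonoidHom
    have hz : ∀ c, ((z c : GL ι F) : Matrix ι ι F) = (c : F) • 1 := fun c => by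
      simp [z, Matrix.smul_one_eq_diagonal]
    refine (Nat.card_eq_of_bijective (fun c : rootsOfUnity 4 F =>
      (⟨⟨z (c : Fˣ), _, _, _, hu4 c, scalar_isPauli (hz _)⟩,
        (pauli_center_iff h2 _).mpr ((Geo.mem_scalars_iff _).mpr ⟨_, hz _⟩)⟩ : Subgroup.center (pauliFour b)))
      ⟨fun c c' he => Subtype.ext (Units.ext (MaxSub.Asch.smul_one_inj (ι := ι) ?_)), fun x => ?_⟩).symm
    · have e1 := congrArg (fun x : Subgroup.center (pauliFour b) => (((x : pauliFour b) : GL ι F) : Matrix ι ι F)) he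
      simpa only [hz] using e1
    · obtain ⟨c, hc⟩ := (Geo.mem_scalars_iff _).mp ((pauli_center_iff h2 _).mp x.2)
      obtain ⟨s, a, d, hd4, hd⟩ := (x : pauliFour b).2
      obtain ⟨-, -, rfl⟩ := unique4 h2 hd (scalar_isPauli hc)
      exact ⟨⟨c, (mem_rootsOfUnity 4 _).mpr (Units.ext hd4)⟩,
        Subtype.ext (Subtype.ext (Units.ext ((hz c).trans hc.symm)))⟩

omit h2 in
theorem IsPauli.sq {g : GL ι F} {s a : Pt} {c : F} (h : IsPauli b g s a c) :
    ((g ^ 2 : GL ι F) : Matrix ι ι F) = (c ^ 2 * chi F a s) • 1 := by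
  refine eq_smul_one_of_span b.span_eq ?_
  rintro _ ⟨i, rfl⟩
  rw [pow_two, Units.val_mul, ← Matrix.mulVec_mulVec, h.2, Matrix.mulVec_smul, h.2, smul_smul, chi_add_right,
    add_assoc, pt_add_self, add_zero]
  congr 1
  calc c * chi F a i * (c * (chi F a i * chi F a s)) = c ^ 2 * (chi F a i * chi F a i) * chi F a s := by ring
    _ = _ := by rw [chi_sq, mul_one]

theorem pauli_pow {x : GL ι F} (hx : x ∈ pauliFour b) : x ^ 4 = 1 := by
  obtain ⟨s, a, c, hc4, h⟩ := hx
  refine Units.ext ?_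
  rw [show 4 = 2 * 2 from rfl, pow_mul, Units.val_pow_eq_pow_val, h.sq, smul_pow, one_pow, mul_pow, ← pow_mul,
    hc4, one_mul, pow_two, chi_sq, one_smul, Units.val_one]

theorem exists_diag_normalizer (hI : I * I = -1) (k : Pt → Bool) (hk : k = (fun i => i.1 == 1) ∨ k = (fun i => i.2 == 1)) :
    ∃ g ∈ Geo.subgroupNormalizer (pauliFour b), ∀ i, (g : Matrix ι ι F) *ᵥ b i = (if k i then I else 1 : F) • b i := by
  have hI0 : I ≠ 0 := fun h => one_ne_zero (show (1 : F) = 0 by rw [h, mul_zero] at hI; linear_combination hI)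
  have hIinv : I⁻¹ = -I := inv_eq_of_mul_eq_one_right (by linear_combination -hI)
  have hI4 : I ^ 4 = 1 := by linear_combination (I * I - 1) * hI
  have hw : ∀ i, (if k i then I else 1 : F) ≠ 0 := fun i => by split_ifs <;> simp [hI0]
  obtain ⟨g, hg⟩ := exists_monomial_gl b 1 fun i => Units.mk0 _ (hw i)
  simp only [Units.val_mk0, Equiv.Perm.coe_one, id_eq] at hg
  refine ⟨g, mem_normalizer_of_finite fun x hx => ?_, hg⟩
  obtain ⟨s, a, c, hc4, hc, hxg⟩ := hx
  obtain ⟨e, he⟩ : ∃ e, ∀ i : Pt, k (i + s) = xor (k i) (k s) ∧ sgn e i = if k i then -1 else 1 := by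
    rcases hk with rfl | rfl
    · exact ⟨(1, 0), fun i => (bool_coord s i).1⟩
    · exact ⟨(0, 1), fun i => (bool_coord s i).2⟩
  let r : F := if k s then I else 1
  refine ⟨s, if k s then a + e else a, c * r, ?_, mul_ne_zero hc (hw s), fun i => ?_⟩
  · rw [mul_pow, hc4, one_mul]
    simp only [r]
    split_ifs
    · exact hI4
    · exact one_pow 4
  have hgi : ((g⁻¹ : GL ι F) : Matrix ι ι F) *ᵥ b i = (if k i then I else 1 : F)⁻¹ • b i := by
    refine mulVec_gl_inj g ?_
    show (g : Matrix ι ι F) *ᵥ _ = (g : Matrix ι ι F) *ᵥ _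
    rw [mulVec_inv_mulVec, Matrix.mulVec_smul, hg, smul_smul, inv_mul_cancel₀ (hw i), one_smul]
  rw [Units.val_mul, Units.val_mul, ← Matrix.mulVec_mulVec, ← Matrix.mulVec_mulVec, hgi, Matrix.mulVec_smul,
    Matrix.mulVec_smul, hxg, Matrix.mulVec_smul, hg, smul_smul, smul_smul]
  congr 1
  rw [(he i).1]
  have hchi : chi F e i = if k i then -1 else 1 := by
    rw [chi, (he i).2]; split_ifs <;> simp
  by_cases h1 : k i <;> by_cases hs : k s <;>
    simp [r, h1, hs, chi_add_left, hchi, hIinv] <;>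
    first | ring1 | linear_combination (c * chi F a i) * hI | linear_combination -(c * chi F a i) * hI

theorem exists_fourier :
    ∃ g ∈ Geo.subgroupNormalizer (pauliFour b),
      ∀ x s a c, IsPauli b x s a c → IsPauli b (g * x * g⁻¹) a s (c * chi F s a) := by
  let L : (ι → F) →ₗ[F] (ι → F) := b.constr F fun i => ∑ j, chi F i j • b j
  have hL : ∀ i, L (b i) = ∑ j, chi F i j • b j := fun i => b.constr_basis F _ i
  have hLL : L ∘ₗ L = (4 : F) • LinearMap.id := by
    refine b.ext fun i => ?_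
    simp only [LinearMap.comp_apply, hL, map_sum, map_smul, LinearMap.smul_apply, LinearMap.id_apply,
      Finset.smul_sum, smul_smul]
    rw [Finset.sum_comm]
    simp only [← Finset.sum_smul]
    rw [Finset.sum_eq_single i]
    · congr 1
      simp only [chi, sgn_comm i, ← Int.cast_mul, ← Int.cast_sum, sgn_sum]
      simp
    · intro j _ hj
      simp only [chi, sgn_comm i, ← Int.cast_mul, ← Int.cast_sum]
      rw [show (∑ x, sgn x i * sgn x j) = 0 by rw [sgn_sum, if_neg (Ne.symm hj)], Int.cast_zero, zero_smul]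
    · simp
  have hdet : LinearMap.det L ≠ 0 := by
    intro h0
    have := congrArg LinearMap.det hLL
    rw [LinearMap.det_comp, h0, zero_mul, LinearMap.det_smul, LinearMap.det_id, mul_one] at this
    exact pow_ne_zero _ (four_ne4 h2) this.symm
  let g : GL ι F := Matrix.GeneralLinearGroup.mkOfDetNeZero (LinearMap.toMatrix' L)
    (by rw [LinearMap.det_toMatrix']; exact hdet)
  have hg : ∀ v, (g : Matrix ι ι F) *ᵥ v = L v := fun v => LinearMap.toMatrix'_mulVec L v
  have key : ∀ x s a c, IsPauli b x s a c → IsPauli b (g * x * g⁻¹) a s (c * chi F s a) := by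
    rintro x s a c hx
    obtain ⟨y, hy⟩ := exists_pauli b a s (mul_ne_zero hx.1 (chi_ne_zero s a))
    suffices g * x * g⁻¹ = y by rw [this]; exact hy
    rw [mul_inv_eq_iff_eq_mul]
    refine Units.ext (ext_of_span b.span_eq ?_)
    rintro _ ⟨i, rfl⟩
    rw [Units.val_mul, Units.val_mul, ← Matrix.mulVec_mulVec, ← Matrix.mulVec_mulVec, hx.2, Matrix.mulVec_smul,
      hg, hg, hL, hL, Finset.smul_sum, Matrix.mulVec_sum]
    rw [← Equiv.sum_comp (Equiv.addRight a) (fun j => (c * chi F a i) • chi F (i + s) j • b j)]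
    refine Finset.sum_congr rfl fun j _ => ?_
    rw [Matrix.mulVec_smul, hy.2, smul_smul, smul_smul, Equiv.coe_addRight]
    congr 1
    rw [chi_add_left, chi_add_right, chi_add_right, chi_comm a i]
    calc c * chi F i a * (chi F i j * chi F i a * (chi F s j * chi F s a))
        = (chi F i a * chi F i a) * (c * chi F i j * chi F s j * chi F s a) := by ring
      _ = _ := by rw [chi_sq]; ring
  refine ⟨g, mem_normalizer_of_finite fun x hx => ?_, key⟩
  obtain ⟨s, a, c, hc4, h⟩ := hx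
  exact ⟨_, _, _, by rw [mul_pow, hc4, one_mul, show (4 : ℕ) = 2 * 2 from rfl, pow_mul, pow_two (chi F s a), chi_sq, one_pow], key x s a c h⟩

theorem pauli_char_abelian (hI : I * I = -1) (A : Subgroup (pauliFour b)) (hA : A.Characteristic) (hAc : IsMulCommutative A) :
    ∀ x ∈ A, (x : GL ι F) ∈ Geo.scalars ι F := by
  have hinv : ∀ g ∈ Geo.subgroupNormalizer (pauliFour b), ∀ x ∈ A,
      ∀ hm : g * (x : GL ι F) * g⁻¹ ∈ pauliFour b, (⟨_, hm⟩ : pauliFour b) ∈ A := by
    intro g hg x hx hm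
    let φ : pauliFour b ≃* pauliFour b :=
      { toFun := fun y => ⟨g * y * g⁻¹, (Subgroup.mem_normalizer_iff.mp hg _).mp y.2⟩
        invFun := fun y => ⟨g⁻¹ * y * g, by
          simpa using (Subgroup.mem_normalizer_iff.mp (inv_mem hg) _).mp y.2⟩
        left_inv := fun y => Subtype.ext (by simp [mul_assoc])
        right_inv := fun y => Subtype.ext (by simp [mul_assoc])
        map_mul' := fun y y' => Subtype.ext (by simp [mul_assoc]) }
    exact Subgroup.characteristic_iff_le_comap.mp hA φ hx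
  have key : ∀ x ∈ A, ∀ s a c, IsPauli b ((x : pauliFour b) : GL ι F) s a c → s = 0 := by
    intro x hx s a c hxp
    by_contra hs
    obtain ⟨k, hk, hks⟩ : ∃ k : Pt → Bool, (k = (fun i => i.1 == 1) ∨ k = (fun i => i.2 == 1)) ∧
        ∀ i, k (i + s) = !k i := by
      have h : ∀ s : Pt, s ≠ 0 → s.1 = 1 ∨ s.2 = 1 := by decide
      rcases h s hs with h1 | h1
      · exact ⟨_, Or.inl rfl, fun i => (bool_flip s i).1 h1⟩
      · exact ⟨_, Or.inr rfl, fun i => (bool_flip s i).2 h1⟩
    obtain ⟨g, hgn, hg⟩ := exists_diag_normalizer (b := b) h2 hI k hk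
    have hm : g * (x : GL ι F) * g⁻¹ ∈ pauliFour b := (Subgroup.mem_normalizer_iff.mp hgn _).mp x.2
    have hc := congrArg Subtype.val (congrArg Subtype.val (hAc.is_comm.comm ⟨_, hinv g hgn x hx hm⟩ ⟨x, hx⟩))
    simp only [Subgroup.coe_mul] at hc
    set d : Pt → F := fun i => if k i then I else 1 with hd
    have hI0 : I ≠ 0 := fun h => one_ne_zero (show (1 : F) = 0 by rw [h, mul_zero] at hI; linear_combination hI)
    have hd0 : ∀ i, d i ≠ 0 := fun i => by simp only [hd]; split_ifs <;> simp [hI0]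
    have hgi : ∀ i, ((g⁻¹ : GL ι F) : Matrix ι ι F) *ᵥ b i = (d i)⁻¹ • b i := fun i => by
      refine mulVec_gl_inj g ?_
      show (g : Matrix ι ι F) *ᵥ _ = (g : Matrix ι ι F) *ᵥ _
      rw [mulVec_inv_mulVec, Matrix.mulVec_smul, hg, smul_smul, inv_mul_cancel₀ (hd0 i), one_smul]
    have hy : ∀ i, ((g * (x : GL ι F) * g⁻¹ : GL ι F) : Matrix ι ι F) *ᵥ b i =
        ((d i)⁻¹ * d (i + s) * (c * chi F a i)) • b (i + s) := fun i => by
      rw [Units.val_mul, Units.val_mul, ← Matrix.mulVec_mulVec, ← Matrix.mulVec_mulVec, hgi, Matrix.mulVec_smul,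
        Matrix.mulVec_smul, hxp.2, Matrix.mulVec_smul, hg, smul_smul, smul_smul]
      congr 1
      simp only [hd]
      ring
    have h1 := congrArg (fun M : GL ι F => b.equivFun ((M : Matrix ι ι F) *ᵥ b 0) 0) hc
    simp only [Units.val_mul (g * (x : GL ι F) * g⁻¹) (x : GL ι F), Units.val_mul (x : GL ι F) (g * (x : GL ι F) * g⁻¹),
      ← Matrix.mulVec_mulVec, hy, hxp.2, Matrix.mulVec_smul, map_smul, Pi.smul_apply, smul_eq_mul, zero_add,
      pt_add_self, Module.Basis.equivFun_self, if_true, mul_one] at h1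
    have e2 : (d s)⁻¹ * d 0 = (d 0)⁻¹ * d s := by
      refine mul_right_cancel₀ (mul_ne_zero (mul_ne_zero hxp.1 (chi_ne_zero (F := F) a 0))
        (mul_ne_zero hxp.1 (chi_ne_zero (F := F) a s))) ?_
      linear_combination h1
    have h0 := hks 0
    rw [zero_add] at h0
    have h3 : I⁻¹ = -I := inv_eq_of_mul_eq_one_right (by linear_combination -hI)
    have h4 : (-I : F) ≠ I := fun h => mul_ne_zero h2 hI0 (by linear_combination -h)
    simp only [hd, h0] at e2
    cases hk0 : k 0 <;> simp [hk0, h3] at e2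
    · exact h4 e2
    · exact h4 e2.symm
  intro x hx
  obtain ⟨s, a, c, -, hxp⟩ := x.2
  obtain rfl := key x hx s a c hxp
  obtain ⟨g, hgn, hgk⟩ := exists_fourier (b := b) h2
  have hm : g * (x : GL ι F) * g⁻¹ ∈ pauliFour b := (Subgroup.mem_normalizer_iff.mp hgn _).mp x.2
  obtain rfl := key _ (hinv g hgn x hx hm) _ _ _ (hgk _ _ _ _ hxp)
  exact (Geo.mem_scalars_iff _).mpr ⟨Units.mk0 c hxp.1, eq_smul_one_of_span b.span_eq (by
    rintro _ ⟨i, rfl⟩
    rw [hxp.2, chi_zero, mul_one, add_zero, Units.val_mk0])⟩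


end Four

end Cfsg.Agent.Aschbacher.FourNine
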