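import Cfsg.Agent.Aschbacher.Unit.Two
import Cfsg.Agent.Aschbacher.SU52

/-!
In SU(6, 2) the stabiliser of an orthogonal frame is not maximal: it lies properly in the stabiliser of a set of
isotropic vectors.
-/

set_option autoImplicit false
set_option linter.unusedSectionVars false
set_option linter.style.haveILetI false
set_option maxRecDepth 4000

namespace Cfsg.Agent.Aschbacher

open scoped MatrixGroups Matrix
open Module

namespace SixTwo

open SU52

/-- The invariant set, in coordinates. -/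
def good {R : Type*} [Mul R] (one : R) (z : R → Bool) (a : Fin 6 → R) : Prop :=
  ((Finset.univ.filter fun i => z (a i) = false).card = 2) ∨ a 0 * a 1 * a 2 * a 3 * a 4 * a 5 = one

/-- The invariant set over four symbols. -/
def goodQ (a : Fin 6 → Q4) : Bool :=
  decide ((Finset.univ.filter fun i => decide (a i = Q4.o) = false).card = 2 ∨
    a 0 * a 1 * a 2 * a 3 * a 4 * a 5 = Q4.i)

/-- Check of invariance under the transvection. -/
def check : Bool :=
  [Q4.o, Q4.i, Q4.w, Q4.z].all fun a => [Q4.o, Q4.i, Q4.w, Q4.z].all fun b => [Q4.o, Q4.i, Q4.w, Q4.z].all fun c =>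
  [Q4.o, Q4.i, Q4.w, Q4.z].all fun d => [Q4.o, Q4.i, Q4.w, Q4.z].all fun e => [Q4.o, Q4.i, Q4.w, Q4.z].all fun f =>
    let s := a + b + c + d + e + f
    !(goodQ ![a, b, c, d, e, f]) || goodQ ![a + s, b + s, c + s, d + s, e + s, f + s]

theorem check_eq : check = true := by decide +kernel

theorem mem_q4 (a : Q4) : a ∈ [Q4.o, Q4.i, Q4.w, Q4.z] := by cases a <;> simp

theorem goodQ_shift (a : Fin 6 → Q4) (h : goodQ a = true) :
    goodQ (fun i => a i + (a 0 + a 1 + a 2 + a 3 + a 4 + a 5)) = true := by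
  have h0 := check_eq
  simp only [check, List.all_eq_true] at h0
  have h1 := h0 _ (mem_q4 (a 0)) _ (mem_q4 (a 1)) _ (mem_q4 (a 2)) _ (mem_q4 (a 3)) _ (mem_q4 (a 4)) _ (mem_q4 (a 5))
  have e1 : a = ![a 0, a 1, a 2, a 3, a 4, a 5] := by funext i; fin_cases i <;> rfl
  have e2 : (fun i => a i + (a 0 + a 1 + a 2 + a 3 + a 4 + a 5)) =
      ![a 0 + (a 0 + a 1 + a 2 + a 3 + a 4 + a 5), a 1 + (a 0 + a 1 + a 2 + a 3 + a 4 + a 5),
        a 2 + (a 0 + a 1 + a 2 + a 3 + a 4 + a 5), a 3 + (a 0 + a 1 + a 2 + a 3 + a 4 + a 5),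
        a 4 + (a 0 + a 1 + a 2 + a 3 + a 4 + a 5), a 5 + (a 0 + a 1 + a 2 + a 3 + a 4 + a 5)] := by
    funext i; fin_cases i <;> rfl
  rw [e2]
  rw [← e1, Bool.or_eq_true, Bool.not_eq_true'] at h1
  rcases h1 with h1 | h1
  · exact absurd (h1 ▸ h) (by decide)
  · exact h1

end SixTwo

open SU52 SixTwo

variable {F : Type*} [Field F] [Fintype F] {q : ℕ}

/-- The stabiliser of an orthogonal frame in SU(6, 2) is not maximal. -/
theorem lines_six_two (hQ : Fintype.card F = q ^ 2) (hq : q = 2) {H : Subgroup (GL (Fin 6) F)}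
    (hH : Geo.IsMaximalIn (GU 6 F q ⊓ Geo.specialLinear (Fin 6) F) H) (h : SuDec q 6 1 H) : False := by
  classical
  obtain ⟨D, hD, rfl⟩ := h
  subst hq
  have hF : Fintype.card F = 4 := by rw [hQ]; norm_num
  haveI := char_two_of_card_four hF
  obtain ⟨ω, hω⟩ := SU52.exists_omega hF
  obtain ⟨σ', -, hσ⟩ := exists_isConj hQ
  set σ : F →+* F := (σ' : F →+* F)
  have hh := hσ.herm (n := 6)
  have hnorm : ∀ x : F, x ≠ 0 → x * σ x = 1 := fun x hx => by
    have h1 := FiniteField.pow_card_sub_one_eq_one x hx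
    rw [hF] at h1
    rw [hσ.apply, ← pow_succ']
    exact h1
  have hb1 : ∀ i, ∃ v ∈ D i, hermForm 6 F 2 v v = 1 := fun i => by
    obtain ⟨v, hv, hv0⟩ := (Submodule.ne_bot_iff (D i)).mp fun e => by
      have := hD.decomp.finrank_eq i
      rw [e, finrank_bot] at this
      omega
    refine ⟨v, hv, ?_⟩
    obtain ⟨w, hw, hvw⟩ := (hD.nondegenerate i v hv hv0).2
    obtain ⟨c, hc⟩ := exists_smul_eq_of_finrank_eq_one (K := F) (hD.decomp.finrank_eq i)
      (x := (⟨v, hv⟩ : D i)) (fun e => hv0 (congrArg Subtype.val e)) ⟨w, hw⟩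
    have hw' : w = c • v := (congrArg Subtype.val hc).symm
    have hne : hermForm 6 F 2 v v ≠ 0 := fun h0 => hvw (by rw [hw']; simp [hh.smul_right, h0])
    have h1 := hh.herm v v
    rw [hσ.apply, sq] at h1
    exact mul_left_cancel₀ hne (by rw [mul_one]; exact h1.symm)
  choose b hbD hb using hb1
  have hbo : ∀ i j, i ≠ j → hermForm 6 F 2 (b i) (b j) = 0 := fun i j hij =>
    hD.orthogonal i j hij _ (hbD i) _ (hbD j)
  let V : (Fin 6 → F) → (Fin 6 → F) := fun a => ∑ i, a i • b i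
  have hcoord : ∀ a j, hermForm 6 F 2 (V a) (b j) = a j := fun a j => by
    simp only [V, hh.sum_left, hh.smul_left]
    rw [Finset.sum_eq_single j (fun i _ hi => by rw [hbo i j hi, mul_zero]) (by simp), hb, mul_one]
  have hVinj : Function.Injective V := fun a a' e => funext fun j => by rw [← hcoord a j, e, hcoord]
  have hf : ∀ a c, hermForm 6 F 2 (V a) (V c) = ∑ i, a i * σ (c i) := fun a c => by
    show hermForm 6 F 2 (∑ i, a i • b i) (V c) = _
    simp only [hh.sum_left, hh.smul_left]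
    refine Finset.sum_congr rfl fun i _ => ?_
    rw [hh.herm (b i) (V c), hcoord]
  have hVadd : ∀ a c (s : F), V (fun i => a i + s * c i) = V a + s • V c := fun a c s => by
    simp only [V, add_smul, mul_smul, Finset.sum_add_distrib, Finset.smul_sum]
  set gd : (Fin 6 → F) → Prop := good (1 : F) (fun x => decide (x = 0)) with hgd
  let S : Set (Fin 6 → F) := {v | ∃ a, gd a ∧ v = V a}
  -- the symbols
  have hval : ∀ a : Fin 6 → F, ∃ a' : Fin 6 → Q4, a = fun i => val ω (a' i) := fun a => by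
    choose a' ha' using fun i => val_surj hF hω (a i)
    exact ⟨a', funext fun i => (ha' i).symm⟩
  have hgq : ∀ a' : Fin 6 → Q4, gd (fun i => val ω (a' i)) ↔ goodQ a' = true := fun a' => by
    rw [hgd, good, goodQ, decide_eq_true_iff]
    refine or_congr (iff_of_eq ?_) ?_
    · congr 3
      ext i
      simp only [decide_eq_false_iff_not]
      rw [show (val ω (a' i) = 0) ↔ a' i = Q4.o from ⟨fun h => val_inj hω (by rw [h]; rfl), fun h => by rw [h]; rfl⟩]
    · rw [← val_mul hω, ← val_mul hω, ← val_mul hω, ← val_mul hω, ← val_mul hω, show (1 : F) = val ω Q4.i from rfl,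
        (val_inj hω).eq_iff]
  -- the overgroup
  set SUg := GU 6 F 2 ⊓ Geo.specialLinear (Fin 6) F with hSUg
  let H' : Subgroup (GL (Fin 6) F) :=
    { carrier := {g | g ∈ SUg ∧ ∀ v, v ∈ S ↔ (g : Matrix (Fin 6) (Fin 6) F) *ᵥ v ∈ S}
      mul_mem' := fun {x y} hx hy => ⟨mul_mem hx.1 hy.1, fun v => by
        rw [Units.val_mul, ← Matrix.mulVec_mulVec, ← hx.2, ← hy.2]⟩
      one_mem' := ⟨one_mem _, fun v => by simp⟩
      inv_mem' := fun {x} hx => ⟨inv_mem hx.1, fun v => by
        rw [hx.2 (((x⁻¹ : GL (Fin 6) F) : Matrix (Fin 6) (Fin 6) F) *ᵥ v), mulVec_inv_mulVec]⟩ }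
  have hbij : ∀ g : GL (Fin 6) F, (∀ v ∈ S, (g : Matrix (Fin 6) (Fin 6) F) *ᵥ v ∈ S) →
      ∀ v, v ∈ S ↔ (g : Matrix (Fin 6) (Fin 6) F) *ᵥ v ∈ S := fun g hg v => by
    refine ⟨hg v, fun h => ?_⟩
    obtain ⟨f, hf'⟩ : ∃ f : S → S, ∀ x : S, (f x : Fin 6 → F) = (g : Matrix (Fin 6) (Fin 6) F) *ᵥ (x : Fin 6 → F) :=
      ⟨fun x => ⟨_, hg x x.2⟩, fun x => rfl⟩
    have hinj : Function.Injective f := fun x y e => Subtype.ext (mulVec_gl_inj g (by
      show (g : Matrix (Fin 6) (Fin 6) F) *ᵥ _ = (g : Matrix (Fin 6) (Fin 6) F) *ᵥ _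
      rw [← hf', ← hf', e]))
    obtain ⟨x, hx⟩ := Finite.injective_iff_surjective.mp hinj ⟨_, h⟩
    have : (x : Fin 6 → F) = v := mulVec_gl_inj g (by
      show (g : Matrix (Fin 6) (Fin 6) F) *ᵥ _ = (g : Matrix (Fin 6) (Fin 6) F) *ᵥ _
      rw [← hf', hx])
    exact this ▸ x.2
  have hle : Geo.decompositionStabilizer D ⊓ SUg ≤ H' := by
    rintro g ⟨⟨π, hπ⟩, hg⟩
    have hgb : ∀ i, ∃ c : F, (g : Matrix (Fin 6) (Fin 6) F) *ᵥ b i = c • b (π i) := fun i => by
      obtain ⟨c, hc⟩ := exists_smul_eq_of_finrank_eq_one (K := F) (hD.decomp.finrank_eq (π i))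
        (x := (⟨b (π i), hbD _⟩ : D (π i)))
        (fun e => by
          have := hb (π i)
          rw [show b (π i) = 0 from congrArg Subtype.val e, hh.zero_left] at this
          exact zero_ne_one this)
        ⟨_, mulVec_mem_of_map hπ (hbD i)⟩
      exact ⟨c, (congrArg Subtype.val hc).symm⟩
    choose c hc using hgb
    have hc0 : ∀ i, c i ≠ 0 := fun i e => by
      have h1 := hc i
      rw [e, zero_smul, ← Matrix.mulVec_zero (g : Matrix (Fin 6) (Fin 6) F)] at h1
      have h2 := hb i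
      rw [mulVec_gl_inj g h1, hh.zero_left] at h2
      exact zero_ne_one h2
    have hgV : ∀ a, (g : Matrix (Fin 6) (Fin 6) F) *ᵥ V a = V (fun j => c (π.symm j) * a (π.symm j)) := fun a => by
      simp only [V, Matrix.mulVec_sum, Matrix.mulVec_smul, hc, smul_smul, mul_comm (a _)]
      exact Fintype.sum_equiv π _ _ fun i => by simp
    have hprodc : ∏ i, c i = 1 := by
      let B : Basis (Fin 6) F (Fin 6 → F) := basisOfLinearIndependentOfCardEqFinrank (b := b) (by
        rw [Fintype.linearIndependent_iff]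
        intro l hl i
        rw [← hcoord l i, show V l = 0 from hl, hh.zero_left]) (by simp)
      have hB : ∀ i, B i = b i := fun i => by simp [B]
      have hM : LinearMap.toMatrix B B (Matrix.toLin' (g : Matrix (Fin 6) (Fin 6) F)) =
          (Matrix.diagonal fun i => c (π.symm i)).submatrix id π := by
        ext i j
        rw [LinearMap.toMatrix_apply, Matrix.toLin'_apply, hB, hc, ← hB, map_smul, B.repr_self,
          Matrix.submatrix_apply, id, Finsupp.smul_single, smul_eq_mul, mul_one, Finsupp.single_apply]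
        rcases eq_or_ne (π j) i with h | h
        · rw [if_pos h, ← h, Matrix.diagonal_apply_eq, Equiv.symm_apply_apply]
        · rw [if_neg h, Matrix.diagonal_apply_ne _ (Ne.symm h)]
      have h1 := LinearMap.det_toMatrix B (Matrix.toLin' (g : Matrix (Fin 6) (Fin 6) F))
      rw [hM, Matrix.det_permute', Matrix.det_diagonal, LinearMap.det_toLin'] at h1
      have hdet : (g : Matrix (Fin 6) (Fin 6) F).det = 1 := det_eq_one_of_mem hg.2
      rw [hdet, Equiv.prod_comp π.symm c] at h1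
      rcases Int.units_eq_one_or (Equiv.Perm.sign π) with hs | hs <;> rw [hs] at h1
      · simpa using h1
      · rw [Units.val_neg, Units.val_one, Int.cast_neg, Int.cast_one, CharTwo.neg_eq, one_mul] at h1
        exact h1
    refine ⟨hg, hbij g ?_⟩
    rintro _ ⟨a, ha, rfl⟩
    refine ⟨_, ?_, hgV a⟩
    rcases ha with ha | ha
    · left
      refine Eq.trans (Finset.card_bij' (fun i _ => π.symm i) (fun i _ => π i) ?_ ?_ (fun i _ => by simp)
        fun i _ => by simp) ha
      · intro i hi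
        simp_all
      · intro i hi
        simp_all
    · right
      have e : ∀ x : Fin 6 → F, ∏ i, x i = x 0 * x 1 * x 2 * x 3 * x 4 * x 5 := fun x => Fin.prod_univ_six x
      rw [← e a] at ha
      rw [← e (fun j => c (π.symm j) * a (π.symm j))]
      rw [Equiv.prod_comp π.symm (fun j => c j * a j), Finset.prod_mul_distrib, hprodc, ha, one_mul]
  -- the two transvections
  have htr : ∀ u' : Fin 6 → F, (∀ i, u' i ≠ 0) → ∃ t ∈ SUg, ∀ a,
      (t : Matrix (Fin 6) (Fin 6) F) *ᵥ V a = V (fun i => a i + (∑ j, a j * σ (u' j)) * u' i) := by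
    intro u' hu'
    have hiso : hermForm 6 F 2 (V u') (V u') = 0 := by
      rw [hf, Finset.sum_congr rfl fun i _ => hnorm _ (hu' i)]
      simp only [Finset.sum_const, Finset.card_univ, Fintype.card_fin, nsmul_eq_mul, mul_one]
      rw [show ((6 : ℕ) : F) = 2 * 3 by norm_num, CharTwo.two_eq_zero, zero_mul]
    obtain ⟨t, ht, htm⟩ := hσ.exists_transvection hiso (c := 1) (by rw [map_one, CharTwo.add_self_eq_zero])
    refine ⟨t, ht, fun a => ?_⟩
    rw [htm, Matrix.add_mulVec, Matrix.one_mulVec, one_smul, hσ.rankOne_mulVec, hf, hVadd]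
  obtain ⟨t, ht, htV⟩ := htr (fun _ => 1) fun _ => one_ne_zero
  have htH' : t ∈ H' := by
    refine ⟨ht, hbij t ?_⟩
    rintro _ ⟨a, ha, rfl⟩
    refine ⟨_, ?_, htV a⟩
    obtain ⟨a', rfl⟩ := hval a
    have hs : (fun i => val ω (a' i) + (∑ j, val ω (a' j) * σ 1) * 1) =
        fun i => val ω (a' i + (a' 0 + a' 1 + a' 2 + a' 3 + a' 4 + a' 5)) := by
      funext i
      simp only [map_one, mul_one, Fin.sum_univ_six, val_add]
    rw [hs, hgq]
    exact goodQ_shift a' ((hgq a').mp ha)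
  have htD : t ∉ Geo.decompositionStabilizer D := by
    rintro ⟨π, hπ⟩
    have hmem := mulVec_mem_of_map hπ (hbD 0)
    obtain ⟨k, hk0, hkπ⟩ : ∃ k : Fin 6, k ≠ 0 ∧ k ≠ π 0 := by
      have : ∀ x : Fin 6, ∃ k : Fin 6, k ≠ 0 ∧ k ≠ x := by decide
      exact this (π 0)
    have hz := hD.orthogonal (π 0) k (Ne.symm hkπ) _ hmem _ (hbD k)
    rw [show b 0 = V (Pi.single 0 1) by simp [V], htV, hcoord] at hz
    simp [Pi.single_apply, hk0] at hz
  rcases hH.2 H' hle fun g hg => hg.1 with e | e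
  · exact htD (e ▸ htH').1
  · obtain ⟨t', ht', htV'⟩ := htr (fun i => if i = 0 then ω else 1) fun i => by
      split
      · exact fun h0 => by simp [h0] at hω
      · exact one_ne_zero
    have hS : V (fun i => val ω (![Q4.i, .i, .o, .o, .o, .o] i)) ∈ S :=
      ⟨_, (hgq _).mpr (by decide), rfl⟩
    have h2 : (t' : Matrix (Fin 6) (Fin 6) F) *ᵥ V (fun i => val ω (![Q4.i, .i, .o, .o, .o, .o] i)) ∈ S :=
      ((e ▸ ht' : t' ∈ H').2 _).mp hS
    obtain ⟨a, ha, hVa⟩ := h2
    rw [htV'] at hVa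
    have hu : (fun i => val ω (![Q4.i, .i, .o, .o, .o, .o] i) + (∑ j, val ω (![Q4.i, .i, .o, .o, .o, .o] j) *
        σ (if j = 0 then ω else 1)) * (if i = 0 then ω else 1)) = fun i => val ω (![Q4.w, .z, .w, .w, .w, .w] i) := by
      have hconj : σ ω = ω + 1 := by
        rw [hσ.apply]
        have h2 : (2 : F) = 0 := CharTwo.two_eq_zero
        linear_combination hω - (ω + 1) * h2
      have h2 : (2 : F) = 0 := CharTwo.two_eq_zero
      funext i
      fin_cases i <;> simp [Fin.sum_univ_six, val, hconj] <;> grind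
    rw [hu] at hVa
    rw [← hVinj hVa, hgq] at ha
    exact absurd ha (by decide)

end Cfsg.Agent.Aschbacher
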