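import Cfsg.Agent.Aschbacher.Unit.Cases

/-!
Over the field with four elements a non-degenerate plane has a single orthogonal frame, so decompositions into planes
and tensor decompositions with a factor of dimension two give decompositions into smaller pieces.
-/

set_option autoImplicit false
set_option linter.unusedSectionVars false
set_option linter.style.haveILetI false

namespace Cfsg.Agent.Aschbacher

open scoped MatrixGroups Matrix Kronecker
open Module

variable {F : Type*} [Field F] [Fintype F] {n q : ℕ}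

/-- The anisotropic vectors of a non-degenerate plane over four elements lie on two orthogonal lines. -/
theorem two_frame {ι : Type} [Fintype ι] [DecidableEq ι] {σ : F →+* F} (hσ : IsConj q σ) (hq : q = 2)
    {f : (ι → F) → (ι → F) → F} (h : Herm σ f) {W : Submodule F (ι → F)} (hnd : Geo.IsNondegenerateOn f W)
    (hW : finrank F W = 2) :
    ∃ b : Fin 2 → (ι → F), (∀ a, b a ∈ W) ∧ (∀ a, f (b a) (b a) ≠ 0) ∧ (∀ a a', a ≠ a' → f (b a) (b a') = 0) ∧
      LinearIndependent F b ∧ ∀ x ∈ W, f x x ≠ 0 → ∃ (a : Fin 2) (l : F), x = l • b a := by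
  classical
  have hval : ∀ x, f x x = 0 ∨ f x x = 1 := fun x => by
    have h1 := h.herm x x
    rw [hσ.apply, hq, sq] at h1
    rcases eq_or_ne (f x x) 0 with h0 | h0
    · exact Or.inl h0
    · exact Or.inr (mul_left_cancel₀ h0 (by rw [mul_one]; exact h1.symm))
  have hnorm : ∀ x : F, x ≠ 0 → x * σ x = 1 := fun x hx => by
    have h1 := FiniteField.pow_card_sub_one_eq_one x hx
    rw [hσ.card, hq] at h1
    rw [hσ.apply, hq, ← pow_succ']
    exact h1
  have h20 : (2 : F) = 0 := by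
    have h1 := Nat.cast_card_eq_zero F
    rw [hσ.card, hq] at h1
    push_cast at h1
    exact mul_self_eq_zero.mp (show (2 : F) * 2 = 0 by linear_combination h1)
  obtain ⟨e, he, hee⟩ : ∃ e ∈ W, f e e ≠ 0 := by
    by_contra hcon
    push Not at hcon
    obtain ⟨x, hx, hx0⟩ := (Submodule.ne_bot_iff W).mp fun e => by rw [e, finrank_bot] at hW; omega
    obtain ⟨y, hy, hxy⟩ := (hnd x hx hx0).2
    obtain ⟨a, ha⟩ := hσ.ne_id
    have e1 := hcon _ (W.add_mem hx hy)
    have e2 := hcon _ (W.add_mem (W.smul_mem a hx) hy)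
    simp only [h.add_left, h.add_right, h.smul_left, h.smul_right, hcon x hx, hcon y hy, mul_zero, add_zero,
      zero_add] at e1 e2
    exact hxy ((mul_eq_zero.mp (show (a - σ a) * f x y = 0 by linear_combination e2 - σ a * e1)).resolve_left
      (sub_ne_zero.mpr (Ne.symm ha)))
  let L : W →ₗ[F] F :=
    { toFun := fun x => f (x : ι → F) e
      map_add' := fun x y => by rw [Submodule.coe_add, h.add_left]
      map_smul' := fun s x => by rw [Submodule.coe_smul, h.smul_left, RingHom.id_apply, smul_eq_mul] }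
  have hker : LinearMap.ker L ≠ ⊥ := by
    intro e'
    have h1 := LinearMap.finrank_range_add_finrank_ker L
    have h2 := Submodule.finrank_le (LinearMap.range L)
    rw [Module.finrank_self] at h2
    rw [e', finrank_bot, hW] at h1
    omega
  obtain ⟨g, hg, hg0⟩ := (Submodule.ne_bot_iff _).mp hker
  have hge : f (g : ι → F) e = 0 := hg
  have heg : f e (g : ι → F) = 0 := h.eq_zero_comm hge
  have hli : LinearIndependent F ![e, (g : ι → F)] := by
    rw [LinearIndependent.pair_iff]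
    intro a b hab
    have h1 := congrArg (fun x => f x e) hab
    simp only [h.add_left, h.smul_left, hge, mul_zero, add_zero, h.zero_left] at h1
    have ha : a = 0 := (mul_eq_zero.mp h1).resolve_right hee
    rw [ha, zero_smul, zero_add, smul_eq_zero] at hab
    exact ⟨ha, hab.resolve_right fun e' => hg0 (Subtype.ext e')⟩
  have hspan : ∀ x ∈ W, ∃ a b : F, x = a • e + b • (g : ι → F) := by
    intro x hx
    have hle : Submodule.span F (Set.range ![e, (g : ι → F)]) = W := by
      refine Submodule.eq_of_le_of_finrank_eq (Submodule.span_le.mpr ?_) (by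
        rw [finrank_span_eq_card hli, Fintype.card_fin, hW])
      rintro _ ⟨i, rfl⟩
      fin_cases i
      · exact he
      · exact g.2
    rw [← hle, Submodule.mem_span_range_iff_exists_fun] at hx
    obtain ⟨c, hc⟩ := hx
    exact ⟨c 0, c 1, by rw [← hc, Fin.sum_univ_two]; rfl⟩
  have hgg : f (g : ι → F) g ≠ 0 := by
    intro h0
    obtain ⟨y, hy, hy0⟩ := (hnd _ g.2 fun e' => hg0 (Subtype.ext e')).2
    obtain ⟨a, b, rfl⟩ := hspan y hy
    exact hy0 (by rw [h.add_right, h.smul_right, h.smul_right, hge, h0, mul_zero, mul_zero, add_zero])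
  refine ⟨![e, (g : ι → F)], Fin.forall_fin_two.mpr ⟨he, g.2⟩, Fin.forall_fin_two.mpr ⟨hee, hgg⟩, ?_, hli, ?_⟩
  · intro a a' haa
    fin_cases a <;> fin_cases a' <;> first | exact absurd rfl haa | exact heg | exact hge
  intro x hx hxx
  obtain ⟨a, b, rfl⟩ := hspan x hx
  by_cases ha : a = 0
  · exact ⟨1, b, by simp [ha]⟩
  by_cases hb : b = 0
  · exact ⟨0, a, by simp [hb]⟩
  exfalso
  refine hxx ?_
  simp only [h.add_left, h.add_right, h.smul_left, h.smul_right, hge, heg, mul_zero, add_zero, zero_add]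
  rw [← mul_assoc, ← mul_assoc, hnorm a ha, hnorm b hb, (hval e).resolve_left hee,
    (hval (g : ι → F)).resolve_left hgg]
  linear_combination h20

theorem lines_of_planes_two (hn : 4 ≤ n) (hQ : Fintype.card F = q ^ 2) (hq : q = 2) {H : Subgroup (GL (Fin n) F)}
    (hH : Geo.IsMaximalIn (GU n F q ⊓ Geo.specialLinear (Fin n) F) H) {t : ℕ} (h : SuDec q t 2 H) :
    SuDec q n 1 H := by
  classical
  obtain ⟨D, hD, rfl⟩ := h
  obtain ⟨σ', -, hσ⟩ := exists_isConj hQ
  set σ : F →+* F := (σ' : F →+* F)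
  have hh := hσ.herm (n := n)
  choose b hbW hb hbo hbli hbmax using fun i => two_frame hσ hq hh (hD.nondegenerate i) (hD.decomp.finrank_eq i)
  let v : Fin t × Fin 2 → (Fin n → F) := fun p => b p.1 p.2
  have hvo : ∀ p p', p ≠ p' → hermForm n F q (v p) (v p') = 0 := by
    rintro ⟨i, a⟩ ⟨j, a'⟩ hne
    by_cases hij : i = j
    · subst hij
      exact hbo i a a' fun e => hne (by rw [e])
    · exact hD.orthogonal i j hij _ (hbW i a) _ (hbW j a')
  have hvli : LinearIndependent F v := by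
    rw [Fintype.linearIndependent_iff]
    intro c hc p
    have h1 := congrArg (fun x => hermForm n F q x (v p)) hc
    simp only [hh.sum_left, hh.zero_left, hh.smul_left] at h1
    rw [Finset.sum_eq_single p (fun p' _ hp => by rw [hvo p' p hp, mul_zero]) (by simp)] at h1
    exact (mul_eq_zero.mp h1).resolve_right (hb p.1 p.2)
  have hcard : Fintype.card (Fin t × Fin 2) = n := by
    obtain ⟨b', -⟩ := exists_decomp_basis hD.decomp
    have h1 := Module.finrank_eq_card_basis b'
    rw [Module.finrank_pi, Fintype.card_fin] at h1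
    exact h1.symm
  haveI : Nonempty (Fin t × Fin 2) := Fintype.card_pos_iff.mp (by omega)
  let B := (basisOfLinearIndependentOfCardEqFinrank hvli (by simp [hcard])).reindex (Fintype.equivFinOfCardEq hcard)
  have hB : ∀ k, B k = v ((Fintype.equivFinOfCardEq hcard).symm k) := fun k => by
    simp [B, Module.Basis.reindex_apply]
  have ho : ∀ i j, i ≠ j → hermForm n F q (B i) (B j) = 0 := fun i j hij => by
    rw [hB, hB]
    exact hvo _ _ fun e => hij ((Fintype.equivFinOfCardEq hcard).symm.injective e)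
  have hd : ∀ i, hermForm n F q (B i) (B i) ≠ 0 := fun i => by rw [hB]; exact hb _ _
  refine ⟨_, hh.orth_frame_decomposition (by omega) ho hd,
    eq_inf_of_maximal hH (le_decompositionStabilizer B fun g hg i => ?_)
      (su_not_le_orthFrame hQ (by omega) (Or.inl hn) B ho hd)⟩
  obtain ⟨⟨π, hπ⟩, hgU, -⟩ := hg
  set p := (Fintype.equivFinOfCardEq hcard).symm i
  have hmem := mulVec_mem_of_map hπ (hbW p.1 p.2)
  obtain ⟨a, l, hl⟩ := hbmax _ _ hmem (by rw [mem_GU_iff.mp hgU]; exact hb _ _)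
  refine ⟨Fintype.equivFinOfCardEq hcard (π p.1, a), l, ?_⟩
  rw [hB, hB, Equiv.symm_apply_apply]
  exact hl

theorem formOfGram_pvec (σ : F →+* F) {a b : ℕ} (G₁ : Matrix (Fin a) (Fin a) F) (G₂ : Matrix (Fin b) (Fin b) F)
    (x y : Fin a → F) (u w : Fin b → F) :
    Geo.formOfGram σ (G₁ ⊗ₖ G₂) (pvec x u) (pvec y w) =
      Geo.formOfGram σ G₁ x y * Geo.formOfGram σ G₂ u w := by
  simp only [Geo.formOfGram, Matrix.kroneckerMap_apply, pvec, Fintype.sum_prod_type, Finset.sum_mul_sum, map_mul]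
  exact Finset.sum_congr rfl fun i _ => Finset.sum_congr rfl fun k _ => Finset.sum_congr rfl fun j _ =>
    Finset.sum_congr rfl fun l _ => by ring

/-- A unitary form given by a power is a hermitian form. -/
theorem IsConj.herm_of_pow {ι : Type} {σ : F →+* F} (hσ : IsConj q σ) {f : (ι → F) → (ι → F) → F}
    (hf : Geo.IsUnitaryFormPow q f) : Herm σ f :=
  ⟨hσ.invol, hf.add_left, hf.smul_left, fun v w => by rw [hσ.apply]; exact hf.herm v w, hf.nondegenerate⟩

theorem dec_of_tensor_two (hn : 4 ≤ n) (hQ : Fintype.card F = q ^ 2) (hq : q = 2) {H : Subgroup (GL (Fin n) F)}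
    (hH : Geo.IsMaximalIn (GU n F q ⊓ Geo.specialLinear (Fin n) F) H) {d : ℕ} (hd : 2 ≤ d) (h : SuTensor q 2 d H) :
    SuDec q 2 d H := by
  classical
  obtain ⟨e, P, f₁, f₂, hf₁, hf₂, ⟨c, hc0, hc⟩, rfl⟩ := h
  obtain ⟨σ', -, hσ⟩ := exists_isConj hQ
  set σ : F →+* F := (σ' : F →+* F)
  have hh := hσ.herm (n := n)
  haveI : Nonempty (Fin d) := ⟨⟨0, by omega⟩⟩
  have h₁ := hσ.herm_of_pow hf₁
  have h₂ := hσ.herm_of_pow hf₂
  have hform : ∀ x y u w, hermForm n F q ((P : Matrix (Fin n) (Fin n) F) *ᵥ (pvec x u ∘ e))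
      ((P : Matrix (Fin n) (Fin n) F) *ᵥ (pvec y w ∘ e)) = c * (f₁ x y * f₂ u w) := by
    intro x y u w
    rw [hc, show (fun x : F => x ^ q) = (σ : F → F) from funext fun x => (hσ.apply x).symm, formOfGram_pvec]
    have e₁ : Geo.formOfGram σ (Geo.gramMatrix f₁) x y = f₁ x y := by
      rw [h₁.gram x y]
      simp only [Geo.formOfGram, dotProduct, Matrix.mulVec, Finset.mul_sum]
      exact Finset.sum_congr rfl fun i _ => Finset.sum_congr rfl fun j _ => by ring
    have e₂ : Geo.formOfGram σ (Geo.gramMatrix f₂) u w = f₂ u w := by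
      rw [h₂.gram u w]
      simp only [Geo.formOfGram, dotProduct, Matrix.mulVec, Finset.mul_sum]
      exact Finset.sum_congr rfl fun i _ => Finset.sum_congr rfl fun j _ => by ring
    rw [e₁, e₂]
  have hnd : Geo.IsNondegenerateOn f₁ (⊤ : Submodule F (Fin 2 → F)) := fun x _ hx => by
    obtain ⟨⟨y, hy⟩, ⟨z, hz⟩⟩ := h₁.nondegenerate x hx
    exact ⟨⟨y, trivial, hy⟩, ⟨z, trivial, hz⟩⟩
  obtain ⟨b, -, hb, hbo, hbli, hbmax⟩ := two_frame hσ hq h₁ hnd (by
    rw [finrank_top, Module.finrank_pi, Fintype.card_fin])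
  let T : Fin 2 → ((Fin d → F) →ₗ[F] (Fin n → F)) := fun i =>
    { toFun := fun u => (P : Matrix (Fin n) (Fin n) F) *ᵥ (pvec (b i) u ∘ e)
      map_add' := fun u u' => by
        rw [show pvec (b i) (u + u') ∘ e = pvec (b i) u ∘ e + pvec (b i) u' ∘ e by
          funext k; simp [pvec, mul_add], Matrix.mulVec_add]
      map_smul' := fun s u => by
        rw [show pvec (b i) (s • u) ∘ e = s • (pvec (b i) u ∘ e) by
          funext k; simp [pvec, mul_left_comm], Matrix.mulVec_smul, RingHom.id_apply] }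
  let E : Fin 2 → Submodule F (Fin n → F) := fun i => LinearMap.range (T i)
  have hTinj : ∀ i, Function.Injective (T i) := fun i u u' huu => by
    obtain ⟨k, hk⟩ := Function.ne_iff.mp (hbli.ne_zero i)
    funext l
    exact mul_left_cancel₀ hk (congrFun (comp_mulVec_inj e P huu) (k, l))
  have hrank : ∀ i, finrank F (E i) = d := fun i => by
    rw [LinearMap.finrank_range_of_inj (hTinj i), Module.finrank_pi, Fintype.card_fin]
  have horth : ∀ i j, i ≠ j → Geo.AreOrthogonalFor (hermForm n F q) (E i) (E j) := by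
    rintro i j hij _ ⟨u, rfl⟩ _ ⟨w, rfl⟩
    show hermForm n F q ((P : Matrix (Fin n) (Fin n) F) *ᵥ _) ((P : Matrix (Fin n) (Fin n) F) *ᵥ _) = 0
    rw [hform, hbo i j hij, zero_mul, mul_zero]
  have hEnd : ∀ i, Geo.IsNondegenerateOn (hermForm n F q) (E i) := by
    rintro i _ ⟨u, rfl⟩ hu0
    obtain ⟨y, hy⟩ := (h₂.nondegenerate u fun e' => hu0 (by rw [e', map_zero])).2
    have h1 : hermForm n F q (T i u) (T i y) ≠ 0 := by
      show hermForm n F q ((P : Matrix (Fin n) (Fin n) F) *ᵥ _) ((P : Matrix (Fin n) (Fin n) F) *ᵥ _) ≠ 0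
      rw [hform]
      exact mul_ne_zero hc0 (mul_ne_zero (hb i) hy)
    exact ⟨⟨T i y, ⟨y, rfl⟩, fun e' => h1 (hh.eq_zero_comm e')⟩, ⟨T i y, ⟨y, rfl⟩, h1⟩⟩
  have hcard : 2 * d = n := by simpa using (Fintype.card_congr e).symm
  have hinf : E 0 ⊓ E 1 = ⊥ := by
    refine (Submodule.eq_bot_iff _).mpr fun x hx => ?_
    by_contra h0
    obtain ⟨y, hy, hy0⟩ := (hEnd 1 x hx.2 h0).2
    exact hy0 (horth 0 1 (by decide) x hx.1 y hy)
  have hsup : E 0 ⊔ E 1 = ⊤ := by
    refine Submodule.eq_top_of_finrank_eq ?_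
    have h1 := Submodule.finrank_sup_add_finrank_inf_eq (E 0) (E 1)
    rw [hinf, finrank_bot, hrank, hrank] at h1
    rw [Module.finrank_pi, Fintype.card_fin]
    omega
  have hE : Geo.IsMDecomposition d E := by
    have h := MaxSub.Asch.isMDecomposition_pair (W := E 0) (U := E 1) (by omega) (hrank 0) (hrank 1) hinf hsup
    convert h using 1
    funext i
    fin_cases i <;> rfl
  refine ⟨E, ⟨hE, hEnd, horth⟩, eq_inf_of_maximal hH ?_ (su_not_le_decompositionStabilizer hQ hE hd)⟩
  rintro g ⟨⟨_, ⟨k, ⟨A, B, hAB⟩, rfl⟩, rfl⟩, hgU, -⟩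
  set g := (MulAut.conj P).toMonoidHom ((Geo.glReindex e.symm).toMonoidHom k) with hg
  have hgv : ∀ x u, (g : Matrix (Fin n) (Fin n) F) *ᵥ ((P : Matrix (Fin n) (Fin n) F) *ᵥ (pvec x u ∘ e)) =
      (P : Matrix (Fin n) (Fin n) F) *ᵥ (pvec ((A : Matrix (Fin 2) (Fin 2) F) *ᵥ x)
        ((B : Matrix (Fin d) (Fin d) F) *ᵥ u) ∘ e) := fun x u => by
    rw [hg, show ((MulAut.conj P).toMonoidHom ((Geo.glReindex e.symm).toMonoidHom k) : Matrix (Fin n) (Fin n) F) =
      MaxSub.Asch.tr e P (k : Matrix (Fin 2 × Fin d) (Fin 2 × Fin d) F) from MaxSub.Asch.tr_eq_conj_glReindex e P k,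
      tr_mulVec, hAB, kron_mulVec_pvec]
  have himg : ∀ i, ∃ j, ∀ x ∈ E i, (g : Matrix (Fin n) (Fin n) F) *ᵥ x ∈ E j := by
    intro i
    obtain ⟨u, hu⟩ : ∃ u, f₂ u u ≠ 0 := by
      by_contra hcon
      push Not at hcon
      obtain ⟨a, ha⟩ := hσ.ne_id
      obtain ⟨y, hy⟩ := (h₂.nondegenerate (Pi.single ⟨0, by omega⟩ 1) (by simp)).2
      have e1 := hcon (Pi.single ⟨0, by omega⟩ 1 + y)
      have e2 := hcon (a • Pi.single ⟨0, by omega⟩ 1 + y)
      simp only [h₂.add_left, h₂.add_right, h₂.smul_left, h₂.smul_right, hcon (Pi.single ⟨0, by omega⟩ 1), hcon y,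
        mul_zero, add_zero, zero_add] at e1 e2
      exact hy ((mul_eq_zero.mp (show (a - σ a) * f₂ (Pi.single ⟨0, by omega⟩ 1) y = 0 by
        linear_combination e2 - σ a * e1)).resolve_left (sub_ne_zero.mpr (Ne.symm ha)))
    have hne : f₁ ((A : Matrix (Fin 2) (Fin 2) F) *ᵥ b i) ((A : Matrix (Fin 2) (Fin 2) F) *ᵥ b i) ≠ 0 := by
      intro h0
      have h1 := mem_GU_iff.mp hgU ((P : Matrix (Fin n) (Fin n) F) *ᵥ (pvec (b i) u ∘ e))
        ((P : Matrix (Fin n) (Fin n) F) *ᵥ (pvec (b i) u ∘ e))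
      rw [hgv, hform, hform, h0, zero_mul, mul_zero] at h1
      exact mul_ne_zero hc0 (mul_ne_zero (hb i) hu) h1.symm
    obtain ⟨j, l, hl⟩ := hbmax _ trivial hne
    refine ⟨j, ?_⟩
    rintro _ ⟨w, rfl⟩
    refine ⟨l • ((B : Matrix (Fin d) (Fin d) F) *ᵥ w), ?_⟩
    show (P : Matrix (Fin n) (Fin n) F) *ᵥ _ = (g : Matrix (Fin n) (Fin n) F) *ᵥ ((P : Matrix (Fin n) (Fin n) F) *ᵥ _)
    rw [hgv, hl]
    congr 1
    funext m
    simp [pvec, mul_left_comm, mul_assoc]
  choose π hπ using himg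
  have hinj : Function.Injective (Matrix.toLin' (g : Matrix (Fin n) (Fin n) F)) := fun x y h =>
    MaxSub.mulVec_injective g (by simpa using h)
  have hπeq : ∀ i, (E i).map (Matrix.toLin' (g : Matrix (Fin n) (Fin n) F)) = E (π i) := fun i =>
    Submodule.eq_of_le_of_finrank_eq (Submodule.map_le_iff_le_comap.mpr fun x hx => by
      rw [Submodule.mem_comap, Matrix.toLin'_apply]; exact hπ i x hx) (by
      rw [← (Submodule.equivMapOfInjective _ hinj (E i)).finrank_eq, hrank, hrank])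
  have hπinj : Function.Injective π := by
    intro i j hij
    by_contra hne
    have h1 : E i = E j := Submodule.map_injective_of_injective hinj (by rw [hπeq, hπeq, hij])
    have h2 : E i = ⊥ := by simpa [Function.onFun, h1] using hE.indep.pairwiseDisjoint hne
    have := hrank i
    rw [h2, finrank_bot] at this
    omega
  exact ⟨Equiv.ofBijective π (Finite.injective_iff_bijective.mp hπinj), hπeq⟩

end Cfsg.Agent.Aschbacher

namespace Cfsg.Agent.Aschbacher

variable {F : Type*} [Field F] [Fintype F] {n q : ℕ}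

/-- The prime field of a group of symplectic type with centre of order four. -/
theorem six_field_four {p : ℕ} (hQ : Fintype.card F = q ^ 2) (h : Geo.IsMinimalFieldFor 4 p 2 F) :
    p.Prime ∧ q = p ∧ p % 4 = 3 := by
  obtain ⟨hp, -, hc, hd, hmin⟩ := h
  have h2 := hp.two_le
  refine ⟨hp, Nat.pow_left_injective two_ne_zero (show q ^ 2 = p ^ 2 by rw [← hQ, hc]), ?_⟩
  have h1 : ¬ 4 ∣ p - 1 := by simpa using hmin 1 one_pos one_lt_two
  have h3 : p % 4 < 4 := Nat.mod_lt _ (by norm_num)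
  have h4 : (p ^ 2) % 4 = 1 := by
    obtain ⟨c, hc'⟩ := hd
    have : 1 ≤ p ^ 2 := Nat.one_le_pow _ _ hp.pos
    omega
  rw [Nat.pow_mod] at h4
  interval_cases hm : p % 4 <;> omega

/-- The prime field of a group of symplectic type with centre of order three. -/
theorem six_field_three {p e : ℕ} (hQ : Fintype.card F = q ^ 2) (hp3 : 3 ≠ p) (h : Geo.IsMinimalFieldFor 3 p e F) :
    p.Prime ∧ q = p ∧ p % 3 = 2 := by
  obtain ⟨hp, -, hc, hd, hmin⟩ := h
  have h2 := hp.two_le
  have hpm : p % 3 ≠ 0 := fun h0 =>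
    hp3 ((Nat.prime_dvd_prime_iff_eq Nat.prime_three hp).mp (Nat.dvd_of_mod_eq_zero h0))
  obtain ⟨j, hj⟩ : ∃ j, e = 2 * j := by
    obtain ⟨j, -, hqj⟩ := (Nat.dvd_prime_pow hp).mp (show q ∣ p ^ e by rw [← hc, hQ]; exact dvd_pow_self _ two_ne_zero)
    rw [hqj, ← pow_mul] at hQ
    exact ⟨j, by rw [← Nat.pow_right_injective hp.two_le (hQ.symm.trans hc)]; ring⟩
  have hj0 : j ≠ 0 := by
    rintro rfl
    rw [hj] at hc
    exact absurd hc (Fintype.one_lt_card.ne')
  have hd2 : 3 ∣ p ^ 2 - 1 := by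
    have h4 : p ^ 2 % 3 = 1 := by
      rw [Nat.pow_mod]
      have := Nat.mod_lt p (show 3 > 0 by norm_num)
      interval_cases hm : p % 3 <;> omega
    omega
  have he2 : e = 2 := by
    by_contra hne
    exact hmin 2 two_pos (by omega) hd2
  refine ⟨hp, Nat.pow_left_injective two_ne_zero (show q ^ 2 = p ^ 2 by rw [← hQ, hc, he2]), ?_⟩
  have h1 : ¬ 3 ∣ p - 1 := by simpa using hmin 1 one_pos (by omega)
  omega

end Cfsg.Agent.Aschbacher
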