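import Cfsg.Agent.Aschbacher.Unit.FourNine
import Cfsg.Agent.Aschbacher.Unit.Two

/-!
In SU(4, 3) the stabiliser of an orthogonal frame normalises a group of symplectic type.
-/

set_option autoImplicit false
set_option linter.unusedSectionVars false
set_option linter.style.haveILetI false

namespace Cfsg.Agent.Aschbacher

open scoped MatrixGroups Matrix
open Module
open FourNine

variable {F : Type*} [Field F] [Fintype F] {q : ℕ}

theorem lines_four_three (hQ : Fintype.card F = q ^ 2) (hq : q = 3) {H : Subgroup (GL (Fin 4) F)}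
    (hH : Geo.IsMaximalIn (GU 4 F q ⊓ Geo.specialLinear (Fin 4) F) H) (h : SuDec q 4 1 H) : SuSix q 2 2 4 H := by
  classical
  obtain ⟨D, hD, rfl⟩ := h
  obtain ⟨σ', -, hσ⟩ := exists_isConj hQ
  set σ : F →+* F := (σ' : F →+* F)
  have hh := hσ.herm (n := 4)
  haveI : Fact (Nat.Prime 3) := ⟨Nat.prime_three⟩
  haveI : Fact (Nat.Prime 2) := ⟨Nat.prime_two⟩
  haveI : CharP F 3 := charP_of_card_eq_prime_pow (f := 2) (by rw [hQ, hq])
  have h2 : (2 : F) ≠ 0 := fun h0 => by
    have h3 : ((2 : ℕ) : F) = 0 := by exact_mod_cast h0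
    rw [CharP.cast_eq_zero_iff F 3] at h3
    omega
  obtain ⟨I, hI⟩ : ∃ I : F, I * I = -1 := by
    obtain ⟨z, hz⟩ := IsCyclic.exists_ofOrder_eq_natCard (α := Fˣ)
    rw [Nat.card_units, Nat.card_eq_fintype_card, hQ, hq] at hz
    have h8 : ((z : F) ^ 4) ^ 2 = 1 := by
      rw [← pow_mul, show 4 * 2 = orderOf z by rw [hz]; rfl, ← Units.val_pow_eq_pow_val, pow_orderOf_eq_one, Units.val_one]
    refine ⟨(z : F) ^ 2, ?_⟩
    rcases sq_eq_one_iff.mp h8 with h1 | h1
    · have := orderOf_dvd_of_pow_eq_one (show z ^ 4 = 1 from Units.ext (by simpa using h1))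
      rw [hz] at this
      exact absurd (Nat.le_of_dvd (by norm_num) this) (by norm_num)
    · rw [← h1, ← pow_add]
  -- an orthonormal frame
  obtain ⟨b₁, hb₁, hb⟩ := exists_frame_of_decomp hD.decomp
  have hspan : ∀ i, D i = Submodule.span F {b₁ i} := fun i => by
    refine (Submodule.eq_of_le_of_finrank_eq ((Submodule.span_singleton_le_iff_mem _ _).mpr (hb₁ i)) ?_).symm
    rw [finrank_span_singleton (b₁.ne_zero i), hD.decomp.finrank_eq]
  have hd1 : ∀ i, hermForm 4 F q (b₁ i) (b₁ i) ≠ 0 := fun i h0 => by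
    obtain ⟨x, hx, hx0⟩ := (hD.nondegenerate i (b₁ i) (hb₁ i) (b₁.ne_zero i)).1
    rw [hspan] at hx
    obtain ⟨l, rfl⟩ := Submodule.mem_span_singleton.mp hx
    exact hx0 (by rw [hh.smul_left, h0, mul_zero])
  have hs : ∀ i, ∃ s : F, s ≠ 0 ∧ s * σ s = (hermForm 4 F q (b₁ i) (b₁ i))⁻¹ := fun i => by
    have hfix : σ (hermForm 4 F q (b₁ i) (b₁ i))⁻¹ = (hermForm 4 F q (b₁ i) (b₁ i))⁻¹ := by
      rw [map_inv₀, ← hh.herm]
    obtain ⟨s, hs, hsb⟩ := hσ.exists_three hfix (inv_ne_zero (hd1 i))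
    obtain ⟨x, hx⟩ := Finset.card_pos.mp (by omega : 0 < s.card)
    exact ⟨x, hsb x hx⟩
  choose s hs0 hss using hs
  let b₀ := b₁.unitsSMul fun i => Units.mk0 (s i) (hs0 i)
  have hb₀ : ∀ i, b₀ i = s i • b₁ i := fun i => by simp [b₀, Module.Basis.unitsSMul_apply]
  let E : Fin 4 ≃ Pt := (Fintype.equivFinOfCardEq (show Fintype.card Pt = 4 from rfl)).symm
  let b := b₀.reindex E
  have hbE : ∀ i, b i = s (E.symm i) • b₁ (E.symm i) := fun i => by simp [b, Module.Basis.reindex_apply, hb₀]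
  have hone : ∀ i, hermForm 4 F q (b i) (b i) = 1 := fun i => by
    rw [hbE, hh.smul_left, hh.smul_right, ← mul_assoc, hss, inv_mul_cancel₀ (hd1 _)]
  have horth : ∀ i j, i ≠ j → hermForm 4 F q (b i) (b j) = 0 := fun i j hij => by
    rw [hbE, hbE, hh.smul_left, hh.smul_right,
      hD.orthogonal _ _ (fun e => hij (E.symm.injective e)) _ (hb₁ _) _ (hb₁ _), mul_zero, mul_zero]
  obtain ⟨hR, hZ⟩ := FourNine.pauli_card (b := b) h2 hI
  have habs := FourNine.pauli_absIrred (b := b) h2
  have hS : Geo.IsSymplecticTypeGroup 2 (pauliFour b) := by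
    haveI := center_cyclic habs
    refine ⟨Nat.prime_two, IsPGroup.of_card (n := 6) (by rw [hR]; norm_num), fun A hA hAc => ?_, ?_⟩
    · have hle : A ≤ Subgroup.center (pauliFour b) := fun x hx =>
        (FourNine.pauli_center_iff h2 x).mpr (FourNine.pauli_char_abelian h2 hI A hA hAc x hx)
      exact isCyclic_of_injective (Subgroup.inclusion hle) (Subgroup.inclusion_injective hle)
    · refine Nat.dvd_antisymm (Monoid.exponent_dvd_of_forall_pow_eq_one fun x => Subtype.ext ?_) ?_
      · simpa using FourNine.pauli_pow h2 x.2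
      · have h1 : Monoid.exponent (Subgroup.center (pauliFour b)) = 4 := IsCyclic.exponent_eq_card.trans hZ
        calc 2 * Nat.gcd 2 2 = Monoid.exponent (Subgroup.center (pauliFour b)) := by rw [h1]; norm_num
          _ ∣ _ := Monoid.exponent_dvd_of_monoidHom (Subgroup.center (pauliFour b)).subtype Subtype.val_injective
  have hexp : ∀ u v, hermForm 4 F q u v = ∑ i, b.equivFun u i * σ (b.equivFun v i) := fun u v => by
    conv_lhs => rw [← b.sum_equivFun u]
    rw [hh.sum_left]
    refine Finset.sum_congr rfl fun i _ => ?_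
    rw [hh.smul_left, hh.herm]
    congr 1
    conv_lhs => rw [← b.sum_equivFun v]
    rw [hh.sum_left, Finset.sum_eq_single i (fun j _ hj => by rw [hh.smul_left, horth j i hj, mul_zero]) (by simp),
      hh.smul_left, hone, mul_one]
  have hsim : pauliFour b ≤ GU 4 F q := by
    rintro g ⟨t, a, d, hd4, hg⟩
    rw [mem_GU_iff]
    intro u v
    rw [hexp, hexp, ← Equiv.sum_comp (Equiv.addRight t)]
    refine Finset.sum_congr rfl fun i _ => ?_
    simp only [Equiv.coe_addRight]
    rw [hg.coord u i, hg.coord v i]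
    have h1 : (d * chi F a i) * σ (d * chi F a i) = 1 := by
      rw [hσ.apply, hq, ← pow_succ', show 3 + 1 = 4 from rfl, mul_pow, hd4, one_mul, show (4 : ℕ) = 2 * 2 from rfl, pow_mul,
        pow_two (chi F a i), chi_sq, one_pow]
    rw [map_mul _ (d * chi F a i)]
    linear_combination (b.equivFun u i * σ (b.equivFun v i)) * h1
  have hmin : Geo.IsMinimalFieldFor 4 3 2 F := by
    refine ⟨Nat.prime_three, inferInstance, by rw [hQ, hq], by norm_num, fun d hd0 hd2 => ?_⟩
    obtain rfl : d = 1 := by omega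
    norm_num
  refine ⟨3, 2, pauliFour b, hS, habs, hsim.trans GU_le_similarityGroup, by norm_num, hmin, fun _ => rfl, hZ,
    by rw [hR]; norm_num, eq_inf_of_maximal hH ?_
      (su_not_le_typeNormalizer hQ le_rfl (by rw [show ((4 : ℕ) : F) = 2 * 2 by norm_num]; exact mul_ne_zero h2 h2)
        (scalarComm_of_symplecticType hS habs))⟩
  rintro g ⟨hgD, hgU, hg1⟩
  obtain ⟨π, c, hπ, hc, hgb⟩ := frame_perm (b := b) (g := g) fun i => by
    obtain ⟨j, r, hj⟩ := hb g hgD (E.symm i)
    refine ⟨E j, s (E.symm i) * r * (s j)⁻¹, ?_⟩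
    rw [hbE, hbE, Equiv.symm_apply_apply, Matrix.mulVec_smul, hj, smul_smul, smul_smul]
    congr 1
    rw [mul_assoc _ (s j)⁻¹, inv_mul_cancel₀ (hs0 j), mul_one]
  let p : Equiv.Perm Pt := Equiv.ofBijective π (Finite.injective_iff_bijective.mp hπ)
  have hgb' : ∀ i, (g : Matrix (Fin 4) (Fin 4) F) *ᵥ b i = c i • b (p i) := hgb
  have hc4 : ∀ i, c i ^ 4 = 1 := fun i => by
    have h1 := mem_GU_iff.mp hgU (b i) (b i)
    rw [hgb' i, hh.smul_left, hh.smul_right, hone, hone, mul_one, hσ.apply, hq, ← pow_succ'] at h1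
    exact h1
  have hprod : (∏ i, c i) ^ 2 = 1 := by
    have h1 := monomial_det_prod b p hgb'
    rw [det_eq_one_of_mem hg1] at h1
    rcases Int.units_eq_one_or (Equiv.Perm.sign p) with h2 | h2 <;> rw [h2] at h1 <;> simp at h1
    · rw [← h1, one_pow]
    · rw [show (∏ i, c i) = -1 by linear_combination h1]; norm_num
  refine mem_normalizer_of_finite fun x hx => ?_
  obtain ⟨s, a, d, hd4, hd, hxb⟩ := hx
  -- the coefficients after conjugation
  let r : Pt → F := fun i => (c i)⁻¹ * (d * chi F a i) * c (i + s)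
  have hr : ∀ i, ((g * x * g⁻¹ : GL (Fin 4) F) : Matrix (Fin 4) (Fin 4) F) *ᵥ b (p i) = r i • b (p (i + s)) := by
    intro i
    have hgi : ((g⁻¹ : GL (Fin 4) F) : Matrix (Fin 4) (Fin 4) F) *ᵥ b (p i) = (c i)⁻¹ • b i := by
      refine mulVec_gl_inj g ?_
      show (g : Matrix (Fin 4) (Fin 4) F) *ᵥ _ = (g : Matrix (Fin 4) (Fin 4) F) *ᵥ _
      rw [mulVec_inv_mulVec, Matrix.mulVec_smul, hgb', smul_smul, inv_mul_cancel₀ (hc i), one_smul]
    rw [Units.val_mul, Units.val_mul, ← Matrix.mulVec_mulVec, ← Matrix.mulVec_mulVec, hgi, Matrix.mulVec_smul,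
      Matrix.mulVec_smul, hxb, Matrix.mulVec_smul, hgb', smul_smul, smul_smul]
  have hr0 : ∀ i, r i ≠ 0 := fun i =>
    mul_ne_zero (mul_ne_zero (inv_ne_zero (hc i)) (mul_ne_zero hd (chi_ne_zero a i))) (hc _)
  have hr4 : ∀ i, r i ^ 4 = 1 := fun i => by
    simp only [r, mul_pow, inv_pow, hc4, hd4, inv_one, one_mul, mul_one]
    rw [show (4 : ℕ) = 2 * 2 from rfl, pow_mul, pow_two (chi F a i), chi_sq, one_pow]
  -- all squares of the coefficients agree
  have hsame : ∀ i, r i ^ 2 = r 0 ^ 2 := by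
    let f : Pt → Bool := fun i => decide (c i ^ 2 = 1)
    have hf : ∀ i, c i ^ 2 = ((if f i then (1 : ℤ) else -1 : ℤ) : F) := fun i => by
      by_cases h : c i ^ 2 = 1
      · simp only [f, h, decide_true, if_true, Int.cast_one]
      · simp only [f, h, decide_false, Bool.false_eq_true, if_false, Int.cast_neg, Int.cast_one]
        exact (sq_eq_one_iff.mp (show (c i ^ 2) ^ 2 = 1 by rw [← pow_mul]; exact hc4 i)).resolve_left h
    have hfp : (∏ i, (if f i then (1 : ℤ) else -1)) = 1 := by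
      have h1 : ((∏ i, (if f i then (1 : ℤ) else -1) : ℤ) : F) = 1 := by
        rw [Int.cast_prod, ← hprod, ← Finset.prod_pow]
        exact Finset.prod_congr rfl fun i _ => (hf i).symm
      rcases bool_sign f with h | h
      · exact h
      · rw [h] at h1
        exact absurd (show (2 : F) = 0 by push_cast at h1; linear_combination -h1) h2
    obtain ⟨e, he⟩ := bool_pattern f hfp
    have hcs : ∀ i, c i ^ 2 = c 0 ^ 2 * chi F e i := fun i => by
      rw [hf i, hf 0, he i, Int.cast_mul]; rfl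
    have hci : ∀ i, ((c i)⁻¹) ^ 2 = c i ^ 2 := fun i => by
      refine mul_left_cancel₀ (pow_ne_zero 2 (hc i)) ?_
      rw [← mul_pow, mul_inv_cancel₀ (hc i), one_pow, ← pow_add, hc4 i]
    intro i
    simp only [r, mul_pow, hci, zero_add]
    rw [hcs i, hcs (i + s), hcs s, pow_two (chi F a i), pow_two (chi F a 0), chi_sq, chi_sq, chi_add_right]
    calc c 0 ^ 2 * chi F e i * (d ^ 2 * 1) * (c 0 ^ 2 * (chi F e i * chi F e s))
        = (chi F e i * chi F e i) * (c 0 ^ 2 * (d ^ 2 * 1) * (c 0 ^ 2 * chi F e s)) := by ring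
      _ = _ := by rw [chi_sq, one_mul]
  have hrprod : ∏ i, r i = 1 := by
    simp only [r, Finset.prod_mul_distrib, Finset.prod_inv_distrib, Finset.prod_const, Finset.card_univ]
    rw [show (∏ i, c (i + s)) = ∏ i, c i from Equiv.prod_comp (Equiv.addRight s) c]
    have h1 : ∀ a : Pt, ∏ i, sgn a i = 1 := by decide
    simp only [chi, ← Int.cast_prod, h1, Int.cast_one, mul_one]
    rw [show Fintype.card Pt = 4 from rfl, hd4, mul_one]
    exact inv_mul_cancel₀ (Finset.prod_ne_zero_iff.mpr fun i _ => hc i)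
  -- so they are a character up to a scalar
  let f : Pt → Bool := fun j => decide (r (p.symm j) = r (p.symm 0))
  have hf : ∀ j, r (p.symm j) = r (p.symm 0) * ((if f j then (1 : ℤ) else -1 : ℤ) : F) := fun j => by
    by_cases h : r (p.symm j) = r (p.symm 0)
    · simp [f, h]
    · rcases sq_eq_sq_iff_eq_or_eq_neg.mp ((hsame (p.symm j)).trans (hsame (p.symm 0)).symm) with h' | h'
      · exact absurd h' h
      · simpa [f, h] using h'
  have hfp : (∏ j, (if f j then (1 : ℤ) else -1)) = 1 := by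
    have h1 : ((∏ j, (if f j then (1 : ℤ) else -1) : ℤ) : F) = 1 := by
      have h2 : ∏ j, r (p.symm j) = 1 := (Equiv.prod_comp p.symm r).trans hrprod
      rw [Finset.prod_congr rfl (fun j _ => hf j), Finset.prod_mul_distrib, Finset.prod_const, Finset.card_univ,
        show Fintype.card Pt = 4 from rfl, hr4 _, one_mul] at h2
      rw [Int.cast_prod]; exact h2
    rcases bool_sign f with h | h
    · exact h
    · rw [h] at h1
      exact absurd (show (2 : F) = 0 by push_cast at h1; linear_combination -h1) h2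
  obtain ⟨e, he⟩ := bool_pattern f hfp
  refine ⟨p s + p 0, e, r (p.symm 0), hr4 _, hr0 _, fun j => ?_⟩
  obtain ⟨i, rfl⟩ := p.surjective j
  rw [hr, pt_affine p s i]
  congr 1
  have h2 := hf (p i)
  rw [Equiv.symm_apply_apply] at h2
  rw [h2, he (p i), show (if f 0 then (1 : ℤ) else -1) = 1 by simp [f], one_mul]
  rfl

end Cfsg.Agent.Aschbacher
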