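import Cfsg.Agent.Aschbacher.Unit.Cases

/-!
For q at most three the stabiliser in SU(4, q) of two complementary totally isotropic planes fixes a symplectic
structure over the fixed field, up to scalars.
-/

set_option autoImplicit false
set_option linter.unusedSectionVars false
set_option linter.style.haveILetI false
set_option linter.unusedSimpArgs false

namespace Cfsg.Agent.Aschbacher

open scoped MatrixGroups Matrix
open Module

variable {F : Type*} [Field F] [Fintype F] {q : ℕ}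

theorem pair_four_small (hQ : Fintype.card F = q ^ 2) (hq : q = 2 ∨ q = 3) {H : Subgroup (GL (Fin 4) F)}
    (hH : Geo.IsMaximalIn (GU 4 F q ⊓ Geo.specialLinear (Fin 4) F) H) (h : SuPair q 2 H) : SuSymp q H := by
  classical
  obtain ⟨D, hD, hts, rfl⟩ := h
  obtain ⟨σ', -, hσ⟩ := exists_isConj hQ
  set σ : F →+* F := (σ' : F →+* F)
  have hh := hσ.herm (n := 4)
  set f := hermForm 4 F q
  have hsup : D 0 ⊔ D 1 = ⊤ := top_le_iff.mp (hD.iSup_eq_top ▸ iSup_le fun i => by
    fin_cases i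
    · exact le_sup_left
    · exact le_sup_right)
  let b := Module.finBasisOfFinrankEq F (D 0) (hD.finrank_eq 0)
  let L : D 1 →ₗ[F] (Fin 2 → F) :=
    { toFun := fun z i => f (z : Fin 4 → F) (b i : Fin 4 → F)
      map_add' := fun x y => by funext i; rw [Submodule.coe_add, hh.add_left]; rfl
      map_smul' := fun c x => by funext i; rw [Submodule.coe_smul, hh.smul_left]; rfl }
  have hLinj : Function.Injective L := by
    rw [injective_iff_map_eq_zero]
    intro z hz
    by_contra h0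
    obtain ⟨x, hx⟩ := (hh.nondegenerate (z : Fin 4 → F) (fun e => h0 (Subtype.ext e))).1
    obtain ⟨a, ha, c, hc, rfl⟩ := Submodule.mem_sup.mp (show x ∈ D 0 ⊔ D 1 from hsup ▸ trivial)
    rw [hh.add_left, hts 1 c hc z z.2, add_zero] at hx
    refine hx ?_
    have h1 := congrArg Subtype.val (b.sum_equivFun ⟨a, ha⟩)
    simp only [Fin.sum_univ_two, Submodule.coe_add, Submodule.coe_smul] at h1
    rw [← h1, hh.add_left, hh.smul_left, hh.smul_left, hh.eq_zero_comm (congrFun hz 0),
      hh.eq_zero_comm (congrFun hz 1), mul_zero, mul_zero, add_zero]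
  have hLsur : Function.Surjective L := (LinearMap.injective_iff_surjective_of_finrank_eq_finrank (by
    rw [hD.finrank_eq 1, Module.finrank_pi, Fintype.card_fin])).mp hLinj
  obtain ⟨w0, hw0⟩ := hLsur ![0, -1]
  obtain ⟨w1, hw1⟩ := hLsur ![1, 0]
  set u0 : Fin 4 → F := (b 0 : Fin 4 → F) with hu0
  set u1 : Fin 4 → F := (b 1 : Fin 4 → F) with hu1
  set z0 : Fin 4 → F := (w0 : Fin 4 → F) with hz0
  set z1 : Fin 4 → F := (w1 : Fin 4 → F) with hz1
  have m00 : f z0 u0 = 0 := congrFun hw0 0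
  have m01 : f z0 u1 = -1 := congrFun hw0 1
  have m10 : f z1 u0 = 1 := congrFun hw1 0
  have m11 : f z1 u1 = 0 := congrFun hw1 1
  have k00 : f u0 z0 = 0 := hh.eq_zero_comm m00
  have k10 : f u1 z0 = -1 := by rw [hh.herm, m01, map_neg, map_one]
  have k01 : f u0 z1 = 1 := by rw [hh.herm, m10, map_one]
  have k11 : f u1 z1 = 0 := hh.eq_zero_comm m11
  have tu : ∀ x ∈ ({u0, u1} : Set (Fin 4 → F)), x ∈ D 0 := by
    rintro x (rfl | rfl)
    · exact (b 0).2
    · exact (b 1).2
  have n00 : f u0 u0 = 0 := hts 0 _ (b 0).2 _ (b 0).2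
  have n01 : f u0 u1 = 0 := hts 0 _ (b 0).2 _ (b 1).2
  have n10 : f u1 u0 = 0 := hts 0 _ (b 1).2 _ (b 0).2
  have n11 : f u1 u1 = 0 := hts 0 _ (b 1).2 _ (b 1).2
  have l00 : f z0 z0 = 0 := hts 1 _ w0.2 _ w0.2
  have l01 : f z0 z1 = 0 := hts 1 _ w0.2 _ w1.2
  have l10 : f z1 z0 = 0 := hts 1 _ w1.2 _ w0.2
  have l11 : f z1 z1 = 0 := hts 1 _ w1.2 _ w1.2
  -- coordinates in the two planes
  have hco0 : ∀ x ∈ D 0, ∃ a c : F, x = a • u0 + c • u1 := fun x hx => by
    refine ⟨b.equivFun ⟨x, hx⟩ 0, b.equivFun ⟨x, hx⟩ 1, ?_⟩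
    have h1 := congrArg Subtype.val (b.sum_equivFun ⟨x, hx⟩)
    simp only [Fin.sum_univ_two, Submodule.coe_add, Submodule.coe_smul] at h1
    exact h1.symm
  have hco1 : ∀ x ∈ D 1, ∃ a c : F, x = a • z0 + c • z1 := fun x hx => by
    refine ⟨-L ⟨x, hx⟩ 1, L ⟨x, hx⟩ 0, ?_⟩
    have h1 : (⟨x, hx⟩ : D 1) = (-L ⟨x, hx⟩ 1) • w0 + L ⟨x, hx⟩ 0 • w1 := by
      apply hLinj
      rw [map_add, map_smul, map_smul, hw0, hw1]
      funext i
      fin_cases i <;> simp
    exact congrArg Subtype.val h1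
  let w : F → F → (Fin 4 → F) := fun a c => a • u0 + c • u1 + (σ a • z0 + σ c • z1)
  have hwadd : ∀ a a' c c', w (a + a') (c + c') = w a c + w a' c' := fun a a' c c' => by
    simp only [w, map_add, add_smul]; abel
  have hwsmul : ∀ r, σ r = r → ∀ a c, w (r * a) (r * c) = r • w a c := fun r hr a c => by
    simp only [w, map_mul, hr, smul_add, smul_smul]
  have hww : ∀ a c a' c', f (w a c) (w a' c') = (a * c' - c * a') - σ (a * c' - c * a') := fun a c a' c' => by
    simp only [w, hh.add_left, hh.add_right, hh.smul_left, hh.smul_right, m00, m01, m10, m11, k00, k01, k10, k11, n00,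
      n01, n10, n11, l00, l01, l10, l11, map_sub, map_mul, hσ.invol, mul_zero, add_zero, zero_add]
    ring
  -- the fixed field
  obtain ⟨F₀, hF₀, hmem⟩ := hσ.fixed_subfield
  obtain ⟨lam, hlam⟩ := hσ.ne_id
  have hζ : lam - σ lam ≠ 0 := sub_ne_zero.mpr (Ne.symm hlam)
  set ζ := lam - σ lam with hζdef
  have hσζ : σ ζ = -ζ := by rw [hζdef, map_sub, hσ.invol]; ring
  have hdec : ∀ a : F, ∃ r ∈ F₀, ∃ s ∈ F₀, a = r + s * lam := by
    intro a
    have hs : σ ((a - σ a) / ζ) = (a - σ a) / ζ := by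
      rw [map_div₀, map_sub, hσ.invol, hσζ, ← neg_sub, neg_div_neg_eq]
    refine ⟨a - (a - σ a) / ζ * lam, (hmem _).mpr ?_, (a - σ a) / ζ, (hmem _).mpr hs, by ring⟩
    rw [map_sub, map_mul, hs]
    have h1 : (a - σ a) / ζ * (lam - σ lam) = a - σ a := div_mul_cancel₀ _ hζ
    linear_combination h1
  let col : Fin 4 → (Fin 4 → F) := ![w 1 0, w lam 0, w 0 1, w 0 lam]
  let P₀ : Matrix (Fin 4) (Fin 4) F := Matrix.of fun i j => col j i
  have hP₀ : ∀ u : Fin 4 → F, P₀ *ᵥ u = u 0 • col 0 + u 1 • col 1 + u 2 • col 2 + u 3 • col 3 := fun u => by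
    ext i
    simp only [P₀, Matrix.mulVec, dotProduct, Matrix.of_apply, Fin.sum_univ_four, Pi.add_apply, Pi.smul_apply,
      smul_eq_mul]
    ring
  have hPw : ∀ u : Fin 4 → F, (∀ i, u i ∈ F₀) → P₀ *ᵥ u = w (u 0 + u 1 * lam) (u 2 + u 3 * lam) := fun u hu => by
    have hr : ∀ i, σ (u i) = u i := fun i => (hmem _).mp (hu i)
    rw [hP₀]
    simp only [col, w, Matrix.cons_val, map_add, map_mul, map_one, map_zero, hr, zero_smul, one_smul, add_smul,
      mul_smul, smul_add, smul_zero, add_zero, zero_add]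
    abel
  have hPdet : P₀.det ≠ 0 := by
    intro h0
    obtain ⟨u, hu, hu'⟩ := Matrix.exists_mulVec_eq_zero_iff.mpr h0
    rw [hP₀] at hu'
    have e1 := congrArg (fun x => f x z1) hu'
    have e2 := congrArg (fun x => f x z0) hu'
    have e3 := congrArg (fun x => f x u1) hu'
    have e4 := congrArg (fun x => f x u0) hu'
    simp only [col, w, Matrix.cons_val, hh.add_left, hh.smul_left, hh.zero_left, k00, k01, k10, k11, m00, m01, m10,
      m11, n00, n01, n10, n11, l00, l01, l10, l11, map_one, map_zero, mul_zero, zero_mul, add_zero, zero_add, mul_one,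
      one_mul] at e1 e2 e3 e4
    have h1 : u 1 = 0 := (mul_eq_zero.mp (show ζ * u 1 = 0 by rw [hζdef]; linear_combination e1 + e3)).resolve_left hζ
    have h3 : u 3 = 0 := (mul_eq_zero.mp (show ζ * u 3 = 0 by rw [hζdef]; linear_combination -e2 - e4)).resolve_left hζ
    have h0' : u 0 = 0 := by linear_combination e1 - lam * h1
    have h2' : u 2 = 0 := by linear_combination -e2 - lam * h3
    exact hu (funext fun i => by fin_cases i <;> assumption)
  set P := Matrix.GeneralLinearGroup.mkOfDetNeZero P₀ hPdet with hP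
  have hσq : ∀ x, x ^ q = σ x := fun x => (hσ.apply x).symm
  have hcard : Fintype.card F = Nat.card F₀ ^ 2 := by rw [hF₀, hQ]
  refine ⟨F₀, P, ζ, hcard, hζ, by rw [hσq, hσζ, add_neg_cancel], fun u v hu hv => ?_,
    fun u hu => ?_, eq_inf_of_maximal hH ?_ (su_not_le_subfieldSubgroup hQ (by norm_num) ?_ P)⟩
  · show ζ * f (P₀ *ᵥ u) (P₀ *ᵥ v) ∈ F₀
    rw [hPw u hu, hPw v hv, hww, hmem, map_mul, hσζ, map_sub σ _ (σ _), hσ.invol]
    ring
  · show f (P₀ *ᵥ u) (P₀ *ᵥ u) = 0
    rw [hPw u hu, hww, show (u 0 + u 1 * lam) * (u 2 + u 3 * lam) - (u 2 + u 3 * lam) * (u 0 + u 1 * lam) = 0 by ring,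
      map_zero, sub_zero]
  swap
  · exact lt_pow_of_subfield Nat.prime_two hcard
  rintro g ⟨⟨π, hπ⟩, hgU, hgS⟩
  set G := (g : Matrix (Fin 4) (Fin 4) F) with hG
  have hiso := mem_GU_iff.mp hgU
  -- the basis of the four vectors
  have hli : LinearIndependent F ![u0, u1, z0, z1] := by
    rw [Fintype.linearIndependent_iff]
    intro c hc
    simp only [Fin.sum_univ_four, Matrix.cons_val] at hc
    have e1 := congrArg (fun x => f x z1) hc
    have e2 := congrArg (fun x => f x z0) hc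
    have e3 := congrArg (fun x => f x u1) hc
    have e4 := congrArg (fun x => f x u0) hc
    simp only [hh.add_left, hh.smul_left, hh.zero_left, k00, k01, k10, k11, m00, m01, m10, m11, n00, n01, n10, n11,
      l00, l01, l10, l11, mul_zero, add_zero, zero_add, mul_one] at e1 e2 e3 e4
    intro i
    fin_cases i
    · exact e1
    · show c 1 = 0
      linear_combination -e2
    · show c 2 = 0
      linear_combination -e3
    · exact e4
  let B := basisOfLinearIndependentOfCardEqFinrank hli (by simp)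
  have hdet : (LinearMap.toMatrix B B (Matrix.toLin' G)).det = 1 := by
    rw [LinearMap.det_toMatrix, LinearMap.det_toLin']
    exact det_eq_one_of_mem hgS
  have hentry : ∀ j (c : Fin 4 → F), G *ᵥ (![u0, u1, z0, z1] j) = ∑ i, c i • ![u0, u1, z0, z1] i →
      ∀ i, LinearMap.toMatrix B B (Matrix.toLin' G) i j = c i := by
    intro j c hc i
    rw [LinearMap.toMatrix_apply, Matrix.toLin'_apply, show B j = ![u0, u1, z0, z1] j by simp [B], hc,
      show (∑ i, c i • ![u0, u1, z0, z1] i) = ∑ i, c i • B i by simp [B], B.repr_sum_self]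
  suffices hkey : ∃ l : F, l ≠ 0 ∧ ∀ a c, ∃ a' c', G *ᵥ w a c = l • w a' c' by
    obtain ⟨l, hl, himg⟩ := hkey
    refine mem_subfieldSubgroup (c := l⁻¹) (inv_ne_zero hl) fun i j => ?_
    obtain ⟨a, c, hcj⟩ : ∃ a c, col j = w a c := by fin_cases j <;> exact ⟨_, _, rfl⟩
    obtain ⟨a', c', h'⟩ := himg a c
    obtain ⟨r0, hr0, s0, hs0, ea⟩ := hdec a'
    obtain ⟨r1, hr1, s1, hs1, ec⟩ := hdec c'
    have hrat : ∀ k, ![r0, s0, r1, s1] k ∈ F₀ := fun k => by fin_cases k <;> assumption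
    have h5 : (((P⁻¹ * g * P : GL (Fin 4) F)) : Matrix (Fin 4) (Fin 4) F) *ᵥ Pi.single j 1 = l • ![r0, s0, r1, s1] := by
      rw [Units.val_mul, Units.val_mul, ← Matrix.mulVec_mulVec, ← Matrix.mulVec_mulVec]
      refine MaxSub.mulVec_injective P ?_
      show (P : Matrix (Fin 4) (Fin 4) F) *ᵥ _ = (P : Matrix (Fin 4) (Fin 4) F) *ᵥ _
      rw [MaxSub.mulVec_inv_mulVec, show (P : Matrix (Fin 4) (Fin 4) F) = P₀ from rfl,
        show P₀ *ᵥ Pi.single j 1 = col j by rw [Matrix.mulVec_single_one]; rfl, hcj, h', Matrix.mulVec_smul,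
        hPw _ hrat]
      simp [ea, ec]
    have h6 := congrFun h5 i
    rw [Matrix.mulVec_single_one] at h6
    rw [Matrix.smul_apply, show (((P⁻¹ * g * P : GL (Fin 4) F)) : Matrix (Fin 4) (Fin 4) F) i j =
      (l • ![r0, s0, r1, s1]) i from h6, Pi.smul_apply, smul_smul, inv_mul_cancel₀ hl, one_smul]
    exact hrat i
  -- scalars with prescribed conjugate
  have hreal : ∀ d : F, σ d = d → d ≠ 0 → d = 1 ∨ d = -1 := by
    intro d hd hd0
    rw [hσ.apply] at hd
    rcases hq with rfl | rfl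
    · exact Or.inl (mul_left_cancel₀ hd0 (by rw [mul_one]; linear_combination hd))
    · exact sq_eq_one_iff.mp (mul_left_cancel₀ hd0 (by rw [mul_one]; linear_combination hd))
  have hl : ∀ e : F, e = 1 ∨ e = -1 → ∃ l, l ≠ 0 ∧ σ l = e * l := by
    rintro e (rfl | rfl)
    · exact ⟨1, one_ne_zero, by rw [map_one, mul_one]⟩
    · exact ⟨ζ, hζ, by rw [hσζ, neg_one_mul]⟩
  have hu : ∀ t : Fin 2, G *ᵥ (b t : Fin 4 → F) ∈ D (π 0) := fun t => mulVec_mem_of_map hπ (b t).2
  have hzm : ∀ z : D 1, G *ᵥ (z : Fin 4 → F) ∈ D (π 1) := fun z => mulVec_mem_of_map hπ z.2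
  have q1 := hiso u0 z0
  have q2 := hiso u1 z0
  have q3 := hiso u0 z1
  have q4 := hiso u1 z1
  rw [show hermForm 4 F q u0 z0 = 0 from k00] at q1
  rw [show hermForm 4 F q u1 z0 = -1 from k10] at q2
  rw [show hermForm 4 F q u0 z1 = 1 from k01] at q3
  rw [show hermForm 4 F q u1 z1 = 0 from k11] at q4
  by_cases hπ0 : π 0 = 0
  · have hπ1 : π 1 = 1 := by
      have h1 : π 1 ≠ 0 := fun e => absurd (π.injective (e.trans hπ0.symm)) (by decide)
      omega
    obtain ⟨A, C, e0⟩ := hco0 _ (hπ0 ▸ hu 0)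
    obtain ⟨B', E, e1⟩ := hco0 _ (hπ0 ▸ hu 1)
    obtain ⟨p0, p1, f0⟩ := hco1 _ (hπ1 ▸ hzm w0)
    obtain ⟨r0, r1, f1⟩ := hco1 _ (hπ1 ▸ hzm w1)
    rw [← hu0] at e0; rw [← hu1] at e1; rw [← hz0] at f0; rw [← hz1] at f1
    rw [e0, f0] at q1; rw [e1, f0] at q2; rw [e0, f1] at q3; rw [e1, f1] at q4
    change f _ _ = _ at q1 q2 q3 q4
    simp only [hh.add_left, hh.add_right, hh.smul_left, hh.smul_right, k00, k01, k10, k11, mul_zero, add_zero,
      zero_add, mul_one, mul_neg_one] at q1 q2 q3 q4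
    set d := A * E - B' * C with hd
    have g0 : d * σ p0 = A := by rw [hd]; linear_combination B' * q1 - A * q2
    have g1 : d * σ p1 = C := by rw [hd]; linear_combination E * q1 - C * q2
    have g2 : d * σ r0 = B' := by rw [hd]; linear_combination B' * q3 - A * q4
    have g3 : d * σ r1 = E := by rw [hd]; linear_combination E * q3 - C * q4
    have hM : LinearMap.toMatrix B B (Matrix.toLin' G) =
        !![A, B', 0, 0; C, E, 0, 0; 0, 0, p0, r0; 0, 0, p1, r1] := by
      ext i j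
      have h0 := hentry 0 ![A, C, 0, 0] (by simpa [Fin.sum_univ_four] using e0) i
      have h1 := hentry 1 ![B', E, 0, 0] (by simpa [Fin.sum_univ_four] using e1) i
      have h2 := hentry 2 ![0, 0, p0, p1] (by simpa [Fin.sum_univ_four] using f0) i
      have h3 := hentry 3 ![0, 0, r0, r1] (by simpa [Fin.sum_univ_four] using f1) i
      fin_cases i <;> fin_cases j <;> assumption
    have hprod : d * (p0 * r1 - p1 * r0) = 1 := by
      rw [← hdet, hM, hd]
      simp [Matrix.det_succ_row_zero, Fin.sum_univ_succ, Fin.succAbove]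
      ring
    have hd0 : d ≠ 0 := fun h0 => zero_ne_one (by rwa [h0, zero_mul] at hprod)
    have hσd : σ d = d := by
      have h1 := congrArg σ hprod
      simp only [map_mul, map_sub, map_one] at h1
      have h2 : σ d * ((d * σ p0) * (d * σ r1) - (d * σ p1) * (d * σ r0)) = d * d := by
        linear_combination (d * d) * h1
      rw [g0, g1, g2, g3] at h2
      exact mul_right_cancel₀ hd0 (by rw [hd] at h2 ⊢; linear_combination h2)
    have hdv := hreal d hσd hd0
    have hdd : d * d = 1 := by rcases hdv with h | h <;> rw [h] <;> ring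
    have hσ2 : ∀ x y, d * σ x = y → x = d * σ y := fun x y hxy => by
      rw [← hxy, map_mul, hσd, hσ.invol, ← mul_assoc, hdd, one_mul]
    obtain ⟨l, hl0, hle⟩ := hl d hdv
    refine ⟨l, hl0, fun a c => ⟨(a * A + c * B') / l, (a * C + c * E) / l, ?_⟩⟩
    have hli' : ∀ x, l * σ (x / l) = d * σ x := fun x => by
      rw [map_div₀, hle]
      rcases hdv with h | h <;> rw [h] <;> field_simp
    simp only [w, Matrix.mulVec_add, Matrix.mulVec_smul, e0, e1, f0, f1, smul_add, smul_smul, hli', map_add, map_mul]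
    rw [mul_div_cancel₀ _ hl0, mul_div_cancel₀ _ hl0, hσ2 p0 A g0, hσ2 p1 C g1, hσ2 r0 B' g2, hσ2 r1 E g3]
    module
  · have hπ0' : π 0 = 1 := by omega
    have hπ1 : π 1 = 0 := by
      have h1 : π 1 ≠ 1 := fun e => absurd (π.injective (e.trans hπ0'.symm)) (by decide)
      omega
    obtain ⟨A, C, e0⟩ := hco1 _ (hπ0' ▸ hu 0)
    obtain ⟨B', E, e1⟩ := hco1 _ (hπ0' ▸ hu 1)
    obtain ⟨p0, p1, f0⟩ := hco0 _ (hπ1 ▸ hzm w0)
    obtain ⟨r0, r1, f1⟩ := hco0 _ (hπ1 ▸ hzm w1)
    rw [← hu0] at e0; rw [← hu1] at e1; rw [← hz0] at f0; rw [← hz1] at f1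
    rw [e0, f0] at q1; rw [e1, f0] at q2; rw [e0, f1] at q3; rw [e1, f1] at q4
    change f _ _ = _ at q1 q2 q3 q4
    simp only [hh.add_left, hh.add_right, hh.smul_left, hh.smul_right, m00, m01, m10, m11, mul_zero, add_zero,
      zero_add, mul_one, mul_neg_one] at q1 q2 q3 q4
    set d := A * E - B' * C with hd
    have g0 : d * σ p0 = -A := by rw [hd]; linear_combination A * q2 - B' * q1
    have g1 : d * σ p1 = -C := by rw [hd]; linear_combination C * q2 - E * q1
    have g2 : d * σ r0 = -B' := by rw [hd]; linear_combination A * q4 - B' * q3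
    have g3 : d * σ r1 = -E := by rw [hd]; linear_combination C * q4 - E * q3
    have hM : LinearMap.toMatrix B B (Matrix.toLin' G) =
        !![0, 0, p0, r0; 0, 0, p1, r1; A, B', 0, 0; C, E, 0, 0] := by
      ext i j
      have h0 := hentry 0 ![0, 0, A, C] (by simpa [Fin.sum_univ_four] using e0) i
      have h1 := hentry 1 ![0, 0, B', E] (by simpa [Fin.sum_univ_four] using e1) i
      have h2 := hentry 2 ![p0, p1, 0, 0] (by simpa [Fin.sum_univ_four] using f0) i
      have h3 := hentry 3 ![r0, r1, 0, 0] (by simpa [Fin.sum_univ_four] using f1) i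
      fin_cases i <;> fin_cases j <;> assumption
    have hprod : d * (p0 * r1 - p1 * r0) = 1 := by
      rw [← hdet, hM, hd]
      simp [Matrix.det_succ_row_zero, Fin.sum_univ_succ, Fin.succAbove]
      ring
    have hd0 : d ≠ 0 := fun h0 => zero_ne_one (by rwa [h0, zero_mul] at hprod)
    have hσd : σ d = d := by
      have h1 := congrArg σ hprod
      simp only [map_mul, map_sub, map_one] at h1
      have h2 : σ d * ((d * σ p0) * (d * σ r1) - (d * σ p1) * (d * σ r0)) = d * d := by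
        linear_combination (d * d) * h1
      rw [g0, g1, g2, g3] at h2
      exact mul_right_cancel₀ hd0 (by rw [hd] at h2 ⊢; linear_combination h2)
    have hdv := hreal d hσd hd0
    have hdd : d * d = 1 := by rcases hdv with h | h <;> rw [h] <;> ring
    have hσ2 : ∀ x y, d * σ x = -y → x = -(d * σ y) := fun x y hxy => by
      rw [show y = -(d * σ x) by rw [hxy, neg_neg], map_neg, map_mul, hσd, hσ.invol, mul_neg, neg_neg, ← mul_assoc,
        hdd, one_mul]
    obtain ⟨l, hl0, hle⟩ := hl (-d) (by rcases hdv with h | h <;> simp [h])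
    refine ⟨l, hl0, fun a c => ⟨-(d * σ (a * A + c * B')) / l, -(d * σ (a * C + c * E)) / l, ?_⟩⟩
    have hli' : ∀ x, l * σ (-(d * σ x) / l) = x := fun x => by
      rw [map_div₀, map_neg, map_mul, hσd, hσ.invol, hle, ← neg_mul, neg_mul, neg_mul, neg_div_neg_eq,
        mul_div_mul_left _ _ hd0, mul_div_cancel₀ _ hl0]
    simp only [w, Matrix.mulVec_add, Matrix.mulVec_smul, e0, e1, f0, f1, smul_add, smul_smul, hli']
    rw [mul_div_cancel₀ _ hl0, mul_div_cancel₀ _ hl0, hσ2 p0 A g0, hσ2 p1 C g1, hσ2 r0 B' g2, hσ2 r1 E g3]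
    simp only [map_add, map_mul]
    module

end Cfsg.Agent.Aschbacher
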